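import Cfsg.Agent.Lib.KnownSimple.DihedralB.Main
import Mathlib.GroupTheory.GroupAction.Primitive
import Mathlib.GroupTheory.GroupAction.MultipleTransitivity
import Mathlib.GroupTheory.SpecificGroups.Dihedral

/-!
A primitive group with a regular dihedral subgroup is doubly transitive.
-/

set_option autoImplicit false

namespace CfsgLib.KnownSimple.DihedralB

variable {m : ℕ}

theorem kdiff_self (x : Pt m) : kdiff x x = orig := by
  obtain ⟨b, i⟩ := x; cases b <;> simp [kdiff, orig]

theorem kdiff_orig (z : Pt m) : kdiff orig z = z := by simp [kdiff, orig]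

theorem kdiff_eq_orig {x y : Pt m} : kdiff x y = orig ↔ x = y := by
  refine ⟨fun h => ?_, fun h => h ▸ kdiff_self x⟩
  obtain ⟨b, i⟩ := x; obtain ⟨c, j⟩ := y
  cases b <;> cases c <;> simp [kdiff, orig, sub_eq_zero] at h ⊢ <;> simp [h]

theorem kdiff_kdiff (x y z : Pt m) : kdiff (kdiff x z) (kdiff x y) = kdiff z y := by
  obtain ⟨a, i⟩ := x; obtain ⟨b, j⟩ := y; obtain ⟨c, k⟩ := z
  cases a <;> cases b <;> cases c <;> simp [kdiff]

/-- The label of the pairs with a given first point, as a permutation. -/
def kdiffEquiv (x : Pt m) : Pt m ≃ Pt m where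
  toFun := kdiff x
  invFun w := (xor x.1 w.1, if x.1 then x.2 - w.2 else w.2 + x.2)
  left_inv y := by
    obtain ⟨a, i⟩ := x; obtain ⟨b, j⟩ := y
    cases a <;> cases b <;> simp [kdiff]
  right_inv y := by
    obtain ⟨a, i⟩ := x; obtain ⟨b, j⟩ := y
    cases a <;> cases b <;> simp [kdiff]

theorem conv_kdiff [NeZero m] (f g : Pt m → ℤ) (x y : Pt m) :
    conv f g (kdiff x y) = ∑ z, f (kdiff x z) * g (kdiff z y) := by
  rw [conv, ← Equiv.sum_comp (kdiffEquiv x)]
  exact Finset.sum_congr rfl fun z _ => by simp [kdiffEquiv, kdiff_kdiff]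

/-- The translations. -/
def transl (z : ZMod m) : Equiv.Perm (Pt m) := (Equiv.refl Bool).prodCongr (Equiv.addRight z)

/-- The flip. -/
def flip : Equiv.Perm (Pt m) := Equiv.boolNot.prodCongr (Equiv.neg _)

@[simp] theorem transl_apply (z : ZMod m) (x : Pt m) : transl z x = (x.1, x.2 + z) := rfl

@[simp] theorem flip_apply (x : Pt m) : flip x = (!x.1, -x.2) := rfl

/-- A group of permutations of the points, containing the dihedral group and preserving no
equivalence relation. -/
structure Dihedral (H : Subgroup (Equiv.Perm (Pt m))) : Prop where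
  transl_mem : ∀ z, transl z ∈ H
  flip_mem : flip ∈ H
  prim : ∀ R : Pt m → Pt m → Prop, Equivalence R → (∀ g ∈ H, ∀ x y, R x y → R (g x) (g y)) →
    (∀ x y, R x y) ∨ ∀ x y, R x y → x = y

namespace Dihedral

variable {H : Subgroup (Equiv.Perm (Pt m))}

/-- The invariant kernels. -/
def inv (H : Subgroup (Equiv.Perm (Pt m))) : Set (Pt m → ℤ) :=
  {f | ∀ g ∈ H, ∀ x y, f (kdiff (g x) (g y)) = f (kdiff x y)}

theorem exists_norm (h : Dihedral H) (x : Pt m) :
    ∃ d ∈ H, d x = orig ∧ ∀ y, d y = kdiff x y := by
  obtain ⟨b, i⟩ := x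
  cases b
  · exact ⟨transl (-i), h.transl_mem _, by simp [orig], fun y => by simp [kdiff, sub_eq_add_neg]⟩
  · exact ⟨flip * transl (-i), H.mul_mem h.flip_mem (h.transl_mem _),
      by simp [orig], fun y => by simp [kdiff]; ring⟩

/-- The scheme of the group. -/
def scheme [NeZero m] (h : Dihedral H) (hm : 2 ≤ m) : Scheme m where
  Inv := inv H
  two_le := hm
  pointwise := fun op hf hg k hk x y => by simp only [hf k hk x y, hg k hk x y]
  delta_mem := fun k _ x y => by simp [delta, kdiff_eq_orig]
  conv_mem := fun hf hg k hk x y => by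
    rw [conv_kdiff, conv_kdiff, ← Equiv.sum_comp k]
    exact Finset.sum_congr rfl fun z _ => by rw [hf k hk x z, hg k hk z y]
  transpose_mem := fun {f} hf k hk x y => by
    have e : ∀ x y : Pt m, kdiff (kdiff x y) orig = kdiff y x := fun x y => by
      rw [← kdiff_self x, kdiff_kdiff]
    simp only [e]
    exact hf k hk y x
  periodic := fun {f} hf {u} hu hper a b => by
    rcases h.prim (fun x y => ∀ w, f (kdiff x w) = f (kdiff y w))
        ⟨fun x w => rfl, fun e w => (e w).symm, fun e e' w => (e w).trans (e' w)⟩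
        (fun k hk x y e w => by
          obtain ⟨v, rfl⟩ := k.surjective w
          rw [hf k hk, hf k hk, e v]) with hall | htriv
    · have hc : ∀ z, f z = f orig := fun z => by
        have := hall orig z z
        rwa [kdiff_orig, kdiff_self] at this
      rw [hc a, hc b]
    · refine absurd (congrArg Prod.snd (htriv orig (false, u) fun w => ?_)) (Ne.symm hu)
      rw [kdiff_orig]
      have e : kdiff (false, u) w = (w.1, w.2 - u) := by simp [kdiff]
      rw [e]
      simpa using hper w.1 (w.2 - u)
  inC := fun {f} hf htrue c hc => by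
    let s : Pt m → Pt m → Prop := fun x y => f (kdiff x y) ≠ 0
    have hfst : ∀ x y, Relation.EqvGen s x y → x.1 = y.1 := fun x y e => by
      induction e with
      | rel x y e =>
        by_contra hne
        refine e ?_
        have : kdiff x y = (true, (kdiff x y).2) := by
          obtain ⟨a, i⟩ := x; obtain ⟨b, j⟩ := y
          cases a <;> cases b <;> simp_all [kdiff]
        rw [this, htrue]
      | refl x => rfl
      | symm x y _ ih => exact ih.symm
      | trans x y z _ _ ih ih' => exact ih.trans ih'
    rcases h.prim (Relation.EqvGen s) (Relation.EqvGen.is_equivalence s) (fun k hk x y e => by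
        induction e with
        | rel x y e => exact .rel _ _ (by simpa only [s, hf k hk] using e)
        | refl x => exact .refl _
        | symm x y _ ih => exact .symm _ _ ih
        | trans x y z _ _ ih ih' => exact .trans _ _ _ ih ih') with hall | htriv
    · exact absurd (hfst _ _ (hall (false, 0) (true, 0))) Bool.false_ne_true
    · by_contra hne
      exact hc (congrArg Prod.snd (htriv orig (false, c) (.rel _ _ (by simpa [s, kdiff_orig] using hne)))).symm
  noMatching := fun {f} hf hfalse c₀ htrue => by
    have hf1 : ∀ z, f z ≠ 0 ↔ z = (true, c₀) := fun ⟨b, c⟩ => by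
      cases b
      · simp [hfalse]
      · by_cases e : c = c₀ <;> simp [htrue, e]
    have hequiv : Equivalence fun x y => x = y ∨ f (kdiff x y) ≠ 0 := by
      refine ⟨fun x => Or.inl rfl, @?_, @?_⟩
      · rintro ⟨a, i⟩ ⟨b, j⟩ (e | e)
        · exact Or.inl e.symm
        · right
          rw [hf1] at e ⊢
          cases a <;> cases b <;> simp [kdiff] at e ⊢ <;> exact e
      · rintro ⟨a, i⟩ ⟨b, j⟩ ⟨c, k⟩ (e | e) e'
        · exact e ▸ e'
        · rcases e' with e' | e'
          · exact Or.inr (e' ▸ e)
          · left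
            rw [hf1] at e e'
            cases a <;> cases b <;> cases c <;> simp [kdiff] at e e' ⊢ <;> grind
    rcases h.prim (fun x y => x = y ∨ f (kdiff x y) ≠ 0) hequiv
        (fun k hk x y e => e.imp (congrArg k) fun e => by rwa [hf k hk]) with hall | htriv
    · rcases hall orig (false, 1) with e | e
      · have : Fact (1 < m) := ⟨hm⟩
        exact zero_ne_one (congrArg Prod.snd e)
      · rw [kdiff_orig, hf1] at e
        exact Bool.false_ne_true (congrArg Prod.fst e)
    · exact Bool.false_ne_true (congrArg Prod.fst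
        (htriv orig (true, c₀) (Or.inr (by rw [kdiff_orig, hf1]))))

/-- The group is transitive on ordered pairs of distinct points. -/
theorem two_transitive [NeZero m] (h : Dihedral H) {x y x' y' : Pt m} (hne : x ≠ y) (hne' : x' ≠ y') :
    ∃ g ∈ H, g x = x' ∧ g y = y' := by
  classical
  rcases le_or_gt 2 m with hm | hm
  · set f : Pt m → ℤ := fun z => if ∃ g ∈ H, g x = orig ∧ g y = z then 1 else 0 with hfdef
    have key : ∀ u v, f (kdiff u v) = 1 ↔ ∃ g ∈ H, g x = u ∧ g y = v := fun u v => by
      obtain ⟨d, hd, hdu, hdv⟩ := h.exists_norm u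
      simp only [hfdef, ite_eq_left_iff, zero_ne_one, imp_false, not_not]
      constructor
      · rintro ⟨g, hg, e1, e2⟩
        exact ⟨d⁻¹ * g, H.mul_mem (H.inv_mem hd) hg, by simp [e1, Equiv.symm_apply_eq, hdu],
          by simp [e2, Equiv.symm_apply_eq, hdv]⟩
      · rintro ⟨g, hg, rfl, rfl⟩
        exact ⟨d * g, H.mul_mem hd hg, by simp [hdu], by simp [hdv]⟩
    have h01 : ∀ z, f z = 0 ∨ f z = 1 := fun z => by simp only [hfdef]; split_ifs <;> simp
    have hf : f ∈ (h.scheme hm).Inv := fun k hk u v => by
      have hiff : f (kdiff (k u) (k v)) = 1 ↔ f (kdiff u v) = 1 := by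
        rw [key, key]
        constructor
        · rintro ⟨g, hg, e1, e2⟩
          exact ⟨k⁻¹ * g, H.mul_mem (H.inv_mem hk) hg, by simp [e1], by simp [e2]⟩
        · rintro ⟨g, hg, rfl, rfl⟩
          exact ⟨k * g, H.mul_mem hk hg, rfl, rfl⟩
      rcases h01 (kdiff (k u) (k v)) with e | e <;> rcases h01 (kdiff u v) with e' | e' <;> simp_all
    have hS := (h.scheme hm).trivial hf
    refine (key x' y').1 ?_
    rw [hS _ (mt kdiff_eq_orig.1 hne'), ← hS _ (mt kdiff_eq_orig.1 hne), key]
    exact ⟨1, H.one_mem, rfl, rfl⟩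
  · obtain rfl : m = 1 := by have := NeZero.ne m; omega
    have e : ∀ z : Pt 1, z = (z.1, 0) := fun z => Prod.ext rfl (Subsingleton.elim _ _)
    obtain ⟨a, i⟩ := x; obtain ⟨b, j⟩ := y; obtain ⟨a', i'⟩ := x'; obtain ⟨b', j'⟩ := y'
    obtain rfl := Subsingleton.elim i 0; obtain rfl := Subsingleton.elim j 0
    obtain rfl := Subsingleton.elim i' 0; obtain rfl := Subsingleton.elim j' 0
    by_cases haa : a = a'
    · exact ⟨1, H.one_mem, by simp [haa], by cases a <;> cases b <;> cases b' <;> simp_all⟩
    · exact ⟨flip, h.flip_mem, by cases a <;> cases a' <;> simp_all,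
        by cases a <;> cases a' <;> cases b <;> cases b' <;> simp_all⟩

end Dihedral

/-- A primitive group with a regular dihedral subgroup is doubly transitive. -/
theorem two_pretransitive_of_regular_dihedral {G Ω : Type*} [Group G] [Finite G] [MulAction G Ω]
    (hprim : MulAction.IsPreprimitive G Ω) {D : Subgroup G} (e : ↥D ≃* DihedralGroup m)
    (htr : MulAction.IsPretransitive ↥D Ω) (hfree : ∀ a : Ω, MulAction.stabilizer ↥D a = ⊥) :
    MulAction.IsMultiplyPretransitive G Ω 2 := by
  rw [MulAction.is_two_pretransitive_iff]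
  intro a b c d hab hcd
  have : NeZero m := ⟨fun h0 => by
    subst h0
    have : Finite (DihedralGroup 0) := Finite.of_equiv _ e.toEquiv
    have : Finite (ZMod 0) := Finite.of_injective DihedralGroup.r fun x y h => by injection h
    exact Infinite.not_finite (α := ℤ) this⟩
  let φ : DihedralGroup m → Ω := fun x => (e.symm x : G) • a
  have hφ : Function.Bijective φ := by
    constructor
    · intro x y h
      refine e.symm.injective (inv_mul_eq_one.1 ?_).symm
      rw [← Subgroup.mem_bot (G := ↥D), ← hfree a, MulAction.mem_stabilizer_iff, mul_smul,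
        inv_smul_eq_iff]
      exact h
    · intro w
      obtain ⟨x, hx⟩ := htr.exists_smul_eq a w
      exact ⟨e x, by simp only [φ, MulEquiv.symm_apply_apply]; exact hx⟩
  let ψ : Pt m ≃ DihedralGroup m :=
    { toFun := fun z => if z.1 then DihedralGroup.sr (-z.2) else DihedralGroup.r z.2
      invFun := fun x => match x with
        | DihedralGroup.r i => (false, i)
        | DihedralGroup.sr i => (true, -i)
      left_inv := fun ⟨b, i⟩ => by cases b <;> simp
      right_inv := fun x => by cases x <;> simp }
  let E : Pt m ≃ Ω := ψ.trans (Equiv.ofBijective φ hφ)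
  let σ : G →* Equiv.Perm (Pt m) := E.symm.permCongrHom.toMonoidHom.comp (MulAction.toPermHom G Ω)
  have hσ : ∀ (g : G) x, E (σ g x) = g • E x := fun g x => by simp [σ]
  have hDih : Dihedral σ.range := by
    refine ⟨fun z => ⟨e.symm (DihedralGroup.r z), Equiv.ext fun x => E.injective ?_⟩,
      ⟨e.symm (DihedralGroup.sr 0), Equiv.ext fun x => E.injective ?_⟩, fun R hR hinv => ?_⟩
    · obtain ⟨b, i⟩ := x
      rw [hσ]
      cases b <;> simp [E, φ, ψ, ← mul_smul, ← Subgroup.coe_mul, ← map_mul, add_comm i z, sub_eq_add_neg]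
    · obtain ⟨b, i⟩ := x
      rw [hσ]
      cases b <;> simp [E, φ, ψ, ← mul_smul, ← Subgroup.coe_mul, ← map_mul]
    let B : Pt m → Set Ω := fun x => {w | R x (E.symm w)}
    have hB : ∀ x, MulAction.IsBlock G (B x) := fun x => by
      rw [MulAction.isBlock_iff_smul_eq_or_disjoint]
      intro g
      by_cases hg : R x (σ g x)
      · left
        ext w
        rw [Set.mem_smul_set_iff_inv_smul_mem]
        have key : ∀ g : G, R x (σ g x) → ∀ v, R x v → R x (σ g v) := fun g hg v hv =>
          hR.trans hg (hinv _ ⟨g, rfl⟩ _ _ hv)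
        have hmv : E.symm (g⁻¹ • w) = σ g⁻¹ (E.symm w) :=
          E.injective (by rw [hσ, E.apply_symm_apply, E.apply_symm_apply])
        simp only [B, Set.mem_ofPred_eq, hmv]
        constructor
        · intro hw
          have := key g hg _ hw
          rwa [← Equiv.Perm.mul_apply, ← map_mul, mul_inv_cancel, map_one, Equiv.Perm.one_apply] at this
        · refine key g⁻¹ ?_ _
          have := hinv _ ⟨g⁻¹, rfl⟩ _ _ hg
          rw [← Equiv.Perm.mul_apply, ← map_mul, inv_mul_cancel, map_one, Equiv.Perm.one_apply] at this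
          exact hR.symm this
      · right
        rw [Set.disjoint_left]
        intro w hw hw'
        rw [Set.mem_smul_set_iff_inv_smul_mem] at hw
        refine hg (hR.trans hw' (hR.symm ?_))
        have := hinv _ ⟨g, rfl⟩ _ _ (show R x (E.symm (g⁻¹ • w)) from hw)
        have e' : σ g (E.symm (g⁻¹ • w)) = E.symm w := E.injective (by rw [hσ]; simp)
        rwa [e'] at this
    by_cases hall : ∃ x, B x = Set.univ
    · obtain ⟨x, hx⟩ := hall
      left
      intro u v
      have hu : R x u := by simpa [B] using (hx ▸ Set.mem_univ (E u) : E u ∈ B x)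
      have hv : R x v := by simpa [B] using (hx ▸ Set.mem_univ (E v) : E v ∈ B x)
      exact hR.trans (hR.symm hu) hv
    · push Not at hall
      right
      intro u v huv
      have hsub := (hprim.isTrivialBlock_of_isBlock (hB u)).resolve_right (hall u)
      exact E.injective (hsub (by simp [B, hR.refl]) (by simp [B, huv]))
  obtain ⟨g, ⟨k, rfl⟩, h1, h2⟩ := hDih.two_transitive (x := E.symm a) (y := E.symm b)
    (x' := E.symm c) (y' := E.symm d) (by simpa using hab) (by simpa using hcd)
  exact ⟨k, by simpa [hσ] using congrArg E h1, by simpa [hσ] using congrArg E h2⟩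

end CfsgLib.KnownSimple.DihedralB
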