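import Cfsg.Agent.Lib.KnownSimple.DihedralB.Scheme

/-!
Multipliers and rational classes of the scheme.
-/

set_option autoImplicit false
set_option linter.unusedSectionVars false

namespace CfsgLib.KnownSimple.DihedralB

open AddMonoidAlgebra Matrix

variable {m : ℕ} [NeZero m]

/-- The image of the cyclic part under multiplication by `p`. -/
def push (p : ℕ) (f : Pt m → ℤ) (c : ZMod m) : ℤ := ∑ i with p • i = c, f (false, i)

/-- The sum of all values. -/
def total (f : Pt m → ℤ) : ℤ := ∑ z, f z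

theorem kdiff_bijective (y : Pt m) : Function.Bijective (kdiff y) := by
  refine Finite.injective_iff_bijective.1 fun z z' h => ?_
  obtain ⟨a, i⟩ := y; obtain ⟨b, j⟩ := z; obtain ⟨b', j'⟩ := z'
  simp only [kdiff, Prod.mk.injEq] at h
  cases a <;> simp_all

theorem total_conv (f g : Pt m → ℤ) : total (conv f g) = total f * total g := by
  simp only [total, conv]
  rw [Finset.sum_comm, Finset.sum_mul]
  refine Finset.sum_congr rfl fun y _ => ?_
  rw [← Finset.mul_sum]
  congr 1
  exact Fintype.sum_bijective _ (kdiff_bijective y) _ _ fun z => rfl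

theorem total_pw (f : Pt m → ℤ) : ∀ j, total (Scheme.pw f j) = total f ^ j
  | 0 => by simp [total, Scheme.pw, delta]
  | j + 1 => by rw [Scheme.pw, total_conv, total_pw f j, pow_succ]

/-- Rationality: invariance of the cyclic part under automorphisms. -/
def IsRat (f : Pt m → ℤ) : Prop := ∀ (k : (ZMod m)ˣ) (c : ZMod m), f (false, k * c) = f (false, c)

theorem exists_unit_of_order {c d : ZMod m} (h : addOrderOf c = addOrderOf d) :
    ∃ k : (ZMod m)ˣ, (k : ZMod m) * c = d := by
  obtain ⟨a, ha, u, hu, hc⟩ := ZMod.eq_unit_mul_divisor c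
  obtain ⟨b, hb, v, hv, hd⟩ := ZMod.eq_unit_mul_divisor d
  have key : ∀ (e : ℕ) (w : ZMod m), IsUnit w → e ∣ m →
      addOrderOf (w * (e : ZMod m)) = m / e := fun e w hw he => by
    obtain ⟨w, rfl⟩ := hw
    rw [show addOrderOf ((w : ZMod m) * (e : ZMod m)) = addOrderOf (e : ZMod m) from
      addOrderOf_injective (AddMonoidHom.mulLeft (w : ZMod m)) (fun x y hxy => by simpa using hxy) _,
      ZMod.addOrderOf_coe _ (NeZero.ne m), Nat.gcd_eq_right he]
  rw [hc, hd, key a u hu ha, key b v hv hb] at h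
  have hm : 0 < m := Nat.pos_of_ne_zero (NeZero.ne m)
  have hab : a = b := by
    rw [← Nat.div_div_self ha hm.ne', h, Nat.div_div_self hb hm.ne']
  subst hab
  obtain ⟨u, rfl⟩ := hu; obtain ⟨v, rfl⟩ := hv
  refine ⟨v * u⁻¹, ?_⟩
  rw [hc, hd, Units.val_mul]
  calc (v : ZMod m) * ((u⁻¹ : (ZMod m)ˣ) : ZMod m) * ((u : ZMod m) * (a : ZMod m))
      = (v : ZMod m) * (((u⁻¹ : (ZMod m)ˣ) : ZMod m) * (u : ZMod m)) * (a : ZMod m) := by ring
    _ = (v : ZMod m) * (a : ZMod m) := by rw [Units.inv_mul, mul_one]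

theorem IsRat.of_order {f : Pt m → ℤ} (hf : IsRat f) {c d : ZMod m}
    (h : addOrderOf c = addOrderOf d) : f (false, c) = f (false, d) := by
  obtain ⟨k, rfl⟩ := exists_unit_of_order h
  exact (hf k c).symm

theorem exists_prime_eq (k : (ZMod m)ˣ) (N : ℕ) :
    ∃ q, q.Prime ∧ N < q ∧ Odd q ∧ (q : ZMod m) = k := by
  obtain ⟨q, hq, hp, he⟩ := Nat.forall_exists_prime_gt_and_eq_mod k.isUnit (max N 2)
  exact ⟨q, hp, lt_of_le_of_lt (le_max_left _ _) hq,
    hp.odd_of_ne_two (ne_of_gt (lt_of_le_of_lt (le_max_right _ _) hq)), he⟩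

namespace Scheme

variable (S : Scheme m)

theorem pw_cyclic_odd {p : ℕ} (hp : p.Prime) (hodd : Odd p) {f : Pt m → ℤ} (hf : f ∈ S.Inv)
    (c : ZMod m) : (p : ℤ) ∣ pw f p (false, c) - push p f c := by
  have : Fact p.Prime := ⟨hp⟩
  obtain ⟨l, hl⟩ := hodd
  have h := (S.pow_mod_odd hf hl).1
  rw [partMod, partMod, gr_pow_prime] at h
  have h1 := congrFun (gr_injective h) c
  rw [← ZMod.intCast_zmod_eq_zero_iff_dvd]
  push_cast [push]
  rw [h1, sub_self]

/-- The `p`-th power of a kernel whose non-cyclic norm vanishes modulo `p`. -/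
theorem pw_of_norm {p : ℕ} (hp : p.Prime) {f : Pt m → ℤ} (hf : f ∈ S.Inv)
    (hN : ∀ d, (p : ℤ) ∣ ∑ i, f (true, i) * f (true, i - d)) :
    (∀ c, (p : ℤ) ∣ pw f p (false, c) - push p f c) ∧ ∀ c, (p : ℤ) ∣ pw f p (true, c) := by
  have : Fact p.Prime := ⟨hp⟩
  have hN0 : normMod p f = 0 := by
    rw [normMod, partMod, conjHom_gr, gr_mul, ← gr_zero]
    refine congrArg gr (funext fun d => ?_)
    simp only [Pi.zero_apply, neg_sub]
    have h := (ZMod.intCast_zmod_eq_zero_iff_dvd _ _).2 (hN d)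
    push_cast at h
    exact h
  rcases hp.eq_two_or_odd' with rfl | hodd
  · obtain ⟨h0, h1⟩ := S.pow_mod_two hf
    rw [hN0, add_zero, partMod, partMod, gr_pow_prime] at h0
    rw [partMod, ← gr_zero] at h1
    refine ⟨fun c => ?_, fun c => ?_⟩
    · rw [← ZMod.intCast_zmod_eq_zero_iff_dvd]
      push_cast [push]
      rw [congrFun (gr_injective h0) c, sub_self]
    · exact (ZMod.intCast_zmod_eq_zero_iff_dvd _ _).1 (congrFun (gr_injective h1) c)
  · refine ⟨S.pw_cyclic_odd hp hodd hf, fun c => ?_⟩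
    obtain ⟨l, hl⟩ := hodd
    have hl0 : l ≠ 0 := by rintro rfl; exact hp.one_lt.ne' hl
    have h1 := (S.pow_mod_odd hf hl).2
    rw [hN0, zero_pow hl0, zero_mul, partMod, ← gr_zero] at h1
    exact (ZMod.intCast_zmod_eq_zero_iff_dvd _ _).1 (congrFun (gr_injective h1) c)

theorem push_unit {q : ℕ} {k : (ZMod m)ˣ} (hk : (q : ZMod m) = k) (f : Pt m → ℤ) (c : ZMod m) :
    push q f ((k : ZMod m) * c) = f (false, c) := by
  rw [push, show (Finset.univ.filter fun i : ZMod m => q • i = (k : ZMod m) * c) = {c} by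
    ext i; simp [nsmul_eq_mul, hk], Finset.sum_singleton]

theorem pw_multiplier {q : ℕ} {k : (ZMod m)ˣ} (hq : q.Prime) (hodd : Odd q) (hk : (q : ZMod m) = k)
    {f : Pt m → ℤ} (hf : f ∈ S.Inv) (c : ZMod m) :
    (q : ℤ) ∣ pw f q (false, k * c) - f (false, c) := by
  have h := S.pw_cyclic_odd hq hodd hf ((k : ZMod m) * c)
  rwa [push_unit hk] at h

theorem rat_pw {q : ℕ} {k : (ZMod m)ˣ} (hq : q.Prime) (hodd : Odd q) (hk : (q : ZMod m) = k)
    {f : Pt m → ℤ} (hf : f ∈ S.Inv) (hr : IsRat f) (z : Pt m) : (q : ℤ) ∣ pw f q z - f z := by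
  refine S.dvd_of_cyclic (S.pointwise (fun a b => a - b) (S.pw_mem hf q) hf) (fun c => ?_) z
  have h := S.pw_multiplier hq hodd hk hf ((k⁻¹ : (ZMod m)ˣ) * c)
  rwa [← mul_assoc, Units.mul_inv, one_mul, hr k⁻¹ c] at h

/-- A `0`-`1` kernel. -/
def IsSet (X : Pt m → ℤ) : Prop := ∀ z, X z = 0 ∨ X z = 1

theorem abs_total_le {X : Pt m → ℤ} (hX : IsSet X) : 0 ≤ total X ∧ total X ≤ 2 * m := by
  refine ⟨Finset.sum_nonneg fun z _ => by rcases hX z with h | h <;> simp [h], ?_⟩
  refine (Finset.sum_le_card_nsmul _ _ 1 fun z _ => by rcases hX z with h | h <;> simp [h]).trans ?_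
  simp

/-- Automorphisms of the cyclic part act on the invariant sets. -/
theorem exists_multiplier {X : Pt m → ℤ} (hX : X ∈ S.Inv) (hset : IsSet X) (k : (ZMod m)ˣ) :
    ∃ Y ∈ S.Inv, IsSet Y ∧ (∀ c, Y (false, k * c) = X (false, c)) ∧ total Y = total X := by
  classical
  obtain ⟨q, hq, hbig, hodd, hk⟩ := exists_prime_eq k (2 * m + 1)
  have : Fact q.Prime := ⟨hq⟩
  set g := pw X q
  set Y : Pt m → ℤ := fun z => if (q : ℤ) ∣ g z then 0 else 1 with hYdef
  have hg := S.pw_mem hX q
  have hY : Y ∈ S.Inv := S.map_mem hg fun a => if (q : ℤ) ∣ a then 0 else 1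
  have hq1 : ¬ (q : ℤ) ∣ 1 := fun h => hq.one_lt.ne' (Nat.dvd_one.1 (Int.natCast_dvd_natCast.1 h))
  have hcyc : ∀ c, (q : ℤ) ∣ g (false, c) - Y (false, c) ∧
      Y (false, c) = X (false, (k⁻¹ : (ZMod m)ˣ) * c) := fun c => by
    have h := S.pw_multiplier hq hodd hk hX ((k⁻¹ : (ZMod m)ˣ) * c)
    rw [← mul_assoc, Units.mul_inv, one_mul] at h
    have hY' : Y (false, c) = X (false, (k⁻¹ : (ZMod m)ˣ) * c) := by
      rcases hset (false, (k⁻¹ : (ZMod m)ˣ) * c) with hx | hx <;> rw [hx] at h ⊢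
      · simp only [hYdef]; rw [if_pos]; simpa using h
      · simp only [hYdef]; rw [if_neg]
        intro h'
        exact hq1 (by simpa [g] using dvd_sub h' h)
    exact ⟨hY' ▸ h, hY'⟩
  refine ⟨Y, hY, fun z => by simp only [hYdef]; split_ifs <;> simp, fun c => ?_, ?_⟩
  · rw [(hcyc _).2, ← mul_assoc, Units.inv_mul, one_mul]
  · have hall := S.dvd_of_cyclic (S.pointwise (fun a b => a - b) hg hY) fun c => (hcyc c).1
    have h1 : (q : ℤ) ∣ total g - total Y := by
      rw [total, total, ← Finset.sum_sub_distrib]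
      exact Finset.dvd_sum fun z _ => hall z
    rw [total_pw] at h1
    rw [← ZMod.intCast_zmod_eq_zero_iff_dvd] at h1
    push_cast at h1
    rw [ZMod.pow_card] at h1
    have h2 : (q : ℤ) ∣ total X - total Y := by
      rw [← ZMod.intCast_zmod_eq_zero_iff_dvd]; push_cast; exact h1
    have hb1 := abs_total_le hset
    have hb2 := abs_total_le (X := Y) fun z => by simp only [hYdef]; split_ifs <;> simp
    have h3 := Int.eq_zero_of_abs_lt_dvd h2 (abs_lt.2 ⟨by omega, by omega⟩)
    omega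

/-- The square of a rational set is rational. -/
theorem isRat_sq {W : Pt m → ℤ} (hW : W ∈ S.Inv) (hset : IsSet W) (hr : IsRat W) :
    IsRat (conv W W) := by
  intro k c
  obtain ⟨q, hq, hbig, hodd, hk⟩ := exists_prime_eq k (4 * m + 2)
  set g := conv W W
  have hg := S.conv_mem hW hW
  have hgq : pw g q = conv (pw W q) (pw W q) := by
    refine S.eq_of_cyclic (S.pw_mem hg q) (S.conv_mem (S.pw_mem hW q) (S.pw_mem hW q)) fun c => ?_
    have h : mat (pw g q) = mat (conv (pw W q) (pw W q)) := by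
      rw [S.mat_pw hg, S.mat_conv hW hW, S.mat_conv (S.pw_mem hW q) (S.pw_mem hW q), S.mat_pw hW,
        ← sq, ← sq, ← pow_mul, ← pow_mul, mul_comm]
    have h1 := congrFun (congrFun h 0) 0
    simp only [mat, Matrix.cons_val', Matrix.cons_val_zero, Matrix.of_apply] at h1
    exact congrFun (gr_injective h1) c
  have h1 := S.pw_multiplier hq hodd hk hg c
  have h2 : (q : ℤ) ∣ pw g q (false, k * c) - g (false, k * c) := by
    rw [hgq, show g (false, (k : ZMod m) * c) = conv W W (false, k * c) from rfl, conv, conv,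
      ← Finset.sum_sub_distrib]
    refine Finset.dvd_sum fun y _ => ?_
    rw [show pw W q y * pw W q (kdiff y (false, k * c)) - W y * W (kdiff y (false, k * c)) =
      (pw W q y - W y) * pw W q (kdiff y (false, k * c)) +
        W y * (pw W q (kdiff y (false, k * c)) - W (kdiff y (false, k * c))) by ring]
    exact dvd_add (dvd_mul_of_dvd_left (S.rat_pw hq hodd hk hW hr _) _)
      (dvd_mul_of_dvd_right (S.rat_pw hq hodd hk hW hr _) _)
  have hb : ∀ z, 0 ≤ g z ∧ g z ≤ 2 * m := fun z => by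
    refine ⟨Finset.sum_nonneg fun y _ => ?_, ?_⟩
    · rcases hset y with h | h <;> rcases hset (kdiff y z) with h' | h' <;> simp [h, h']
    · refine (Finset.sum_le_card_nsmul _ _ 1 fun y _ => ?_).trans (by simp)
      rcases hset y with h | h <;> rcases hset (kdiff y z) with h' | h' <;> simp [h, h']
  have hb1 := hb (false, k * c)
  have hb2 := hb (false, c)
  simp only [g] at h1 h2 hb1 hb2 ⊢
  have h3 := Int.eq_zero_of_abs_lt_dvd (dvd_sub h1 h2) (abs_lt.2 ⟨by omega, by omega⟩)
  omega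

/-- Rational classes: minimal rational sets. -/
theorem exists_class {c : ZMod m} (hc : c ≠ 0) :
    ∃ X ∈ S.Inv, IsSet X ∧ IsRat X ∧ X orig = 0 ∧ X (false, c) = 1 ∧
      ∀ f ∈ S.Inv, IsRat f → ∀ z, X z = 1 → f z = f (false, c) := by
  classical
  let P : ℕ → Prop := fun n => ∃ X ∈ S.Inv, IsSet X ∧ IsRat X ∧ X orig = 0 ∧ X (false, c) = 1 ∧
    total X = n
  have hex : ∃ n, P n := by
    have hb := abs_total_le (X := fun z : Pt m => 1 - delta z) fun z => by
      simp only [delta]; split_ifs <;> simp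
    refine ⟨(total fun z : Pt m => 1 - delta z).toNat, _, S.map_mem S.delta_mem fun a => 1 - a,
      fun z => by simp only [delta]; split_ifs <;> simp, fun k d => ?_, by simp [delta], ?_,
      (Int.toNat_of_nonneg hb.1).symm⟩
    · simp [delta, orig, Units.mul_right_eq_zero]
    · simp [delta, orig, hc]
  obtain ⟨X, hX, hset, hrat, h0, h1, htot⟩ := Nat.find_spec hex
  refine ⟨X, hX, hset, hrat, h0, h1, fun f hf hfr z hz => ?_⟩
  by_contra hne
  set Y : Pt m → ℤ := fun z => if f z = f (false, c) then X z else 0 with hYdef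
  have hY : Y ∈ S.Inv := S.pointwise (fun a b => if a = f (false, c) then b else 0) hf hX
  have hYset : IsSet Y := fun z => by simp only [hYdef]; split_ifs <;> simp [hset z]
  have hlt : total Y < total X := by
    refine Finset.sum_lt_sum (fun w _ => ?_) ⟨z, Finset.mem_univ _, ?_⟩
    · simp only [hYdef]; split_ifs
      · exact le_rfl
      · rcases hset w with h | h <;> simp [h]
    · simp only [hYdef]; rw [if_neg hne, hz]; exact zero_lt_one
  have hY0 := (abs_total_le hYset).1
  refine Nat.find_min hex (m := (total Y).toNat) (by omega)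
    ⟨Y, hY, hYset, fun k d => ?_, by simp [hYdef, h0], by simp [hYdef, h1], (Int.toNat_of_nonneg hY0).symm⟩
  simp only [hYdef, hfr k d, hrat k d]

end Scheme

end CfsgLib.KnownSimple.DihedralB
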