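import Cfsg.Agent.Lib.KnownSimple.DihedralB.Periodic

/-!
No rational set with periodic cyclic part: odd primes, mixed order, powers of two.
-/

set_option autoImplicit false
set_option linter.unusedSectionVars false

namespace CfsgLib.KnownSimple.DihedralB

open AddMonoidAlgebra

variable {m : ℕ} [NeZero m] {p : ℕ} {S : Scheme m} {W : Pt m → ℤ}

namespace Scheme

theorem pw_conv_self {f : Pt m → ℤ} (hf : f ∈ S.Inv) (q : ℕ) :
    pw (conv f f) q = conv (pw f q) (pw f q) := by
  have hg := S.conv_mem hf hf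
  refine S.eq_of_cyclic (S.pw_mem hg q) (S.conv_mem (S.pw_mem hf q) (S.pw_mem hf q)) fun c => ?_
  have h : mat (pw (conv f f) q) = mat (conv (pw f q) (pw f q)) := by
    rw [S.mat_pw hg, S.mat_conv hf hf, S.mat_conv (S.pw_mem hf q) (S.pw_mem hf q), S.mat_pw hf,
      ← sq, ← sq, ← pow_mul, ← pow_mul, mul_comm]
  have h1 := congrFun (congrFun h 0) 0
  simp only [mat, Matrix.cons_val', Matrix.cons_val_zero, Matrix.of_apply] at h1
  exact congrFun (gr_injective h1) c

theorem Good.odd_false (h : S.Good p W) (hp2 : p ≠ 2) : False := by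
  obtain ⟨n, α, hall, hna, hab, hn, ha0, ham, hb0, hbm⟩ := h.design
  have hb := h.bound hall
  have hodd := h.prime.odd_of_ne_two hp2
  have hdvd : (p : ℤ) ∣ n := by
    have h0 : ∀ z, (p : ℤ) ∣ pw W p z := by
      refine S.dvd_of_cyclic (S.pw_mem h.mem p) fun c => ?_
      have h1 := S.pw_cyclic_odd h.prime hodd h.mem c
      exact (dvd_iff_dvd_of_dvd_sub h1).2 (Per.dvd_fiber h.dvd (h := fun i => W (false, i)) h.per c)
    have h1 : (p : ℤ) ∣ pw (conv W W) p (false, 0) := by
      rw [pw_conv_self h.mem, conv]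
      exact Finset.dvd_sum fun y _ => dvd_mul_of_dvd_left (h0 y) _
    have h2 := (dvd_iff_dvd_of_dvd_sub (S.pw_cyclic_odd h.prime hodd (S.conv_mem h.mem h.mem) 0)).1 h1
    rw [push, sum_fiber h.dvd (nsmul_zero p)] at h2
    simp only [hall, zero_add, Finset.sum_add_distrib, Finset.sum_const, Finset.card_range,
      nsmul_eq_mul, ← Finset.mul_sum] at h2
    have hδ : ∑ j ∈ Finset.range p, delta ((false, (j : ZMod m) * gen m p) : Pt m) = 1 := by
      rw [Finset.sum_eq_single 0]
      · simp [delta, orig]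
      · intro j hj hj0
        have hne : (j : ZMod m) * gen m p ≠ 0 := fun he => by
          have hd := addOrderOf_dvd_of_nsmul_eq_zero (show j • gen m p = 0 by rw [nsmul_eq_mul, he])
          rw [addOrderOf_gen h.dvd] at hd
          exact absurd (Nat.le_of_dvd (Nat.pos_of_ne_zero hj0) hd) (not_le.2 (Finset.mem_range.1 hj))
        simp [delta, orig, hne]
      · intro h0'; exact absurd (Finset.mem_range.2 h.prime.pos) h0'
    rw [hδ, mul_one] at h2
    exact (dvd_add_left (dvd_mul_right _ _)).1 h2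
  set a := cycSize W
  set b := outSize W
  rw [total_eq] at hna
  have hp3 : (3 : ℤ) ≤ p := by
    exact_mod_cast lt_of_le_of_ne h.prime.two_le (Ne.symm hp2)
  have hpd : (p : ℤ) ∣ a - b := (Nat.prime_iff_prime_int.1 h.prime).dvd_of_dvd_pow (hn ▸ hdvd)
  rcases eq_or_ne (a - b) 0 with hd0 | hd0
  · have hn0 : n = 0 := by rw [hn, hd0]; ring
    have : (a + b) * (a + b - 2 * m) = 0 := by
      have hα : α = a + b := by linarith
      rw [hα] at hab
      linear_combination (a - b) * hd0 + 2 * hab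
    rcases mul_eq_zero.1 this with e | e <;> linarith
  have hD : (3 : ℤ) ≤ |a - b| := hp3.trans (Int.le_of_dvd (abs_pos.2 hd0) ((dvd_abs _ _).2 hpd))
  have hid : 4 * (a * (m - a)) = n * (2 * m - 2) + (a - b) * (2 * m - 2 * (a + b)) := by
    have hα : α = a + b - n := by linarith
    rw [hα] at hab
    linear_combination -2 * hab + 2 * hn
  have hX : n * ((2 * p - 4) * m + 2 * p) ≤ -(p * ((a - b) * (2 * m - 2 * (a + b)))) := by
    nlinarith [hb, hid]
  have he : |2 * (m : ℤ) - 2 * (a + b)| < 2 * m := by rw [abs_lt]; constructor <;> linarith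
  have h1 : -(p * ((a - b) * (2 * m - 2 * (a + b)))) ≤ p * (|a - b| * |2 * (m : ℤ) - 2 * (a + b)|) := by
    rw [← abs_mul, ← mul_neg]
    exact mul_le_mul_of_nonneg_left (neg_le_abs _) (by positivity)
  have hnD : n = |a - b| * |a - b| := by rw [hn, abs_mul_abs_self, sq]
  rw [hnD] at hX
  have h2 : |a - b| * ((2 * p - 4) * m + 2 * p) ≤ p * |2 * (m : ℤ) - 2 * (a + b)| := by
    refine le_of_mul_le_mul_left ?_ (abs_pos.2 hd0)
    nlinarith [hX, h1]
  have hm0 : (0 : ℤ) < m := by exact_mod_cast Nat.pos_of_ne_zero (NeZero.ne m)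
  nlinarith [mul_le_mul_of_nonneg_right hD (by nlinarith : (0 : ℤ) ≤ (2 * p - 4) * m + 2 * p),
    mul_lt_mul_of_pos_left he (by linarith : (0 : ℤ) < p), mul_nonneg (sub_nonneg.2 hp3) hm0.le]

/-- Mixed order at the prime two. -/
theorem Good.mixed_false (h : S.Good 2 W) {o : ℕ} [NeZero o] (hom : o ∣ m) (ho : Odd o) (ho1 : o ≠ 1)
    (hW : (∀ c : ZMod m, ZMod.castHom hom (ZMod o) c ≠ 0 → W (false, c) = 0) ∨
      ∀ c : ZMod m, ZMod.castHom hom (ZMod o) c ≠ 0 → W (false, c) = 1) : False := by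
  classical
  obtain ⟨n, α, hall, hna, hab, hn, ha0, ham, hb0, hbm⟩ := h.design
  rw [total_eq] at hna
  set a := cycSize W with hadef
  set b := outSize W
  set φ : ZMod m →+ ZMod o := (ZMod.castHom hom (ZMod o)).toAddMonoidHom with hφ
  set s : ZMod o → ℤ := fun y => ∑ i with φ i = y, W (false, i)
  set r : ZMod o → ℤ := fun y => ∑ i with φ i = y, (1 : ℤ)
  have hsurj : Function.Surjective φ := ZMod.castHom_surjective hom
  have hr : ∀ y, r y = r 0 := fun y => by
    obtain ⟨c, rfl⟩ := hsurj y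
    simp only [r, Finset.sum_filter]
    rw [← Equiv.sum_comp (Equiv.addRight c)]
    refine Finset.sum_congr rfl fun i _ => ?_
    simp [map_add]
  have h1o : (1 : ZMod o) ≠ 0 := fun e => ho1 (by simpa using (ZMod.one_eq_zero_iff).1 e)
  obtain ⟨t, hst, hlam⟩ : ∃ t, (∀ y, y ≠ 0 → s y = t) ∧ (s 0 - t = a ∨ s 0 - t = a - m) := by
    rcases hW with hW | hW
    · have hs : ∀ y, y ≠ 0 → s y = 0 := fun y hy => Finset.sum_eq_zero fun i hi =>
        hW i (by rw [Finset.mem_filter] at hi; exact hi.2.trans_ne hy)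
      refine ⟨0, hs, Or.inl ?_⟩
      rw [sub_zero, hadef, cycSize, ← Finset.sum_fiberwise Finset.univ φ]
      exact (Finset.sum_eq_single 0 (fun y _ hy => hs y hy) (by simp)).symm
    · have hs : ∀ y, y ≠ 0 → s y = r 0 := fun y hy => by
        rw [← hr y]
        exact Finset.sum_congr rfl fun i hi =>
          hW i (by rw [Finset.mem_filter] at hi; exact hi.2.trans_ne hy)
      refine ⟨r 0, hs, Or.inr ?_⟩
      have h1 : a - m = ∑ y, (s y - r y) := by
        rw [Finset.sum_sub_distrib, hadef, cycSize,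
          ← Finset.sum_fiberwise Finset.univ φ fun i => W (false, i),
          Finset.sum_fiberwise Finset.univ φ fun _ => (1 : ℤ)]
        simp
        rfl
      rw [h1, Finset.sum_eq_single 0 (fun y _ hy => by rw [hr y, hs y hy, sub_self]) (by simp)]
  set lam := s 0 - t with hlamdef
  have hlam0 : lam ≠ 0 := by rcases hlam with e | e <;> rw [e] <;> omega
  have hcube : lam ^ 3 = n * lam := by
    have hc := congrArg (mapDomainRingHom ℤ φ) (h.cube hall)
    simp only [← Int.cast_smul_eq_zsmul (AddMonoidAlgebra ℤ (ZMod m)), smul_eq_mul, map_mul, map_add,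
      map_pow, map_intCast, map_ofNat, part, pushHom_gr] at hc
    set J : AddMonoidAlgebra ℤ (ZMod o) := gr fun _ => 1
    have hJ : J * J = (o : AddMonoidAlgebra ℤ (ZMod o)) * J := by
      rw [gr_mul_one, ← Int.cast_smul_eq_zsmul (AddMonoidAlgebra ℤ (ZMod o)), smul_eq_mul]
      simp [J]
    have hsmul : ∀ (z : ℤ) (f : ZMod o → ℤ),
        (z : AddMonoidAlgebra ℤ (ZMod o)) * gr f = gr fun c => z * f c := fun z f => by
      rw [← smul_eq_mul, Int.cast_smul_eq_zsmul]
      simp [gr, Finset.smul_sum, AddMonoidAlgebra.smul_single]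
    have hone : (1 : AddMonoidAlgebra ℤ (ZMod o)) = gr fun c => if c = 0 then 1 else 0 := by
      rw [gr_single_zero, AddMonoidAlgebra.one_def]
    have hA : gr s = (lam : AddMonoidAlgebra ℤ (ZMod o)) + (t : AddMonoidAlgebra ℤ (ZMod o)) * J := by
      rw [← mul_one (lam : AddMonoidAlgebra ℤ (ZMod o)), hone, hsmul, hsmul, gr_add]
      refine congrArg gr (funext fun c => ?_)
      by_cases hc0 : c = 0
      · subst hc0; simp [lam]
      · simp [hc0, hst c hc0]
    have hR : gr r = (r 0 : AddMonoidAlgebra ℤ (ZMod o)) * J := by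
      rw [hsmul]; exact congrArg gr (funext fun c => by rw [hr c, mul_one])
    obtain ⟨X, hX⟩ : ∃ X : ℤ, ((2 * (lam ^ 3 - n * lam) : ℤ) : AddMonoidAlgebra ℤ (ZMod o)) * 1 =
        (X : AddMonoidAlgebra ℤ (ZMod o)) * J := by
      refine ⟨2 * n * t + (2 * α * a - α * b) * r 0 -
        (6 * lam ^ 2 * t + 6 * lam * t ^ 2 * o + 2 * t ^ 3 * o * o), ?_⟩
      change 2 * gr s ^ 3 = _ * gr s + _ * gr r at hc
      rw [hA, hR] at hc
      push_cast at hc ⊢
      linear_combination hc -
        ((2 * (t : AddMonoidAlgebra ℤ (ZMod o)) ^ 3) * J + 6 * (lam : AddMonoidAlgebra ℤ (ZMod o)) * (t : AddMonoidAlgebra ℤ (ZMod o)) ^ 2 +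
          2 * (t : AddMonoidAlgebra ℤ (ZMod o)) ^ 3 * (o : AddMonoidAlgebra ℤ (ZMod o))) * hJ
    rw [hone, hsmul, hsmul] at hX
    have e0 := congrFun (gr_injective hX) 0
    have e1 := congrFun (gr_injective hX) 1
    simp only [if_true, if_neg h1o, mul_one, mul_zero] at e0 e1
    linarith
  have hnl : n = lam ^ 2 := mul_right_cancel₀ hlam0 (by linear_combination -hcube)
  have hae : (2 : ℤ) ∣ a := by
    rw [hadef, cycSize]
    exact Per.dvd_sum h.dvd (h := fun i => W (false, i)) h.per
  have hme : (2 : ℤ) ∣ m := by exact_mod_cast h.dvd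
  have hd : (a - b) = lam ∨ (a - b) = -lam := sq_eq_sq_iff_eq_or_eq_neg.1 (hn.symm.trans hnl)
  have hα : α = a + b - n := by linarith
  rw [hα] at hab
  have hm8 : m = 8 := by
    rcases hlam with e | e <;> rw [e] at hd hnl <;> rcases hd with hd | hd
    · omega
    · obtain rfl : n = a ^ 2 := hnl
      have hb : b = 2 * a := by omega
      rw [hb] at hab
      have h4 : 4 * a = (3 - a) * m := mul_left_cancel₀ ha0.ne' (by linear_combination hab)
      have ha2 : a = 2 := by
        rcases lt_or_ge a 3 with h3 | h3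
        · omega
        · nlinarith
      rw [ha2] at h4
      omega
    · omega
    · have hb : b = 2 * a - m := by omega
      obtain ⟨μ, hμ⟩ : ∃ μ : ℤ, a = m - μ := ⟨m - a, by ring⟩
      rw [hnl, hb, hμ] at hab
      have hμ0 : 0 < μ := by omega
      have h4 : μ * (4 + m) = 3 * m := mul_left_cancel₀ hμ0.ne' (by linear_combination hab)
      have hμ2 : μ = 2 := by
        rcases lt_or_ge μ 3 with h3 | h3
        · omega
        · nlinarith
      rw [hμ2] at h4
      omega
  subst hm8
  obtain ⟨k, hk⟩ := ho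
  have ho8 : o ∈ Nat.divisors 8 := Nat.mem_divisors.2 ⟨hom, by norm_num⟩
  rw [show Nat.divisors 8 = {1, 2, 4, 8} by decide] at ho8
  simp only [Finset.mem_insert, Finset.mem_singleton] at ho8
  omega

end Scheme

end CfsgLib.KnownSimple.DihedralB
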