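import Cfsg.Agent.Lib.KnownSimple.DihedralB.PrimePower

/-!
The scheme of a primitive group with a regular dihedral subgroup is trivial.
-/

set_option autoImplicit false
set_option linter.unusedSectionVars false

namespace CfsgLib.KnownSimple.DihedralB

variable {m : ℕ} [NeZero m] {p : ℕ}

theorem order_dvd_translate (hpm : p ∣ m) {c : ZMod m} (hc : p ∣ addOrderOf c) (j : ℕ) :
    addOrderOf (c + j • gen m p) ∣ addOrderOf c := by
  refine addOrderOf_dvd_of_nsmul_eq_zero ?_
  rw [nsmul_add, addOrderOf_nsmul_eq_zero, zero_add, ← mul_nsmul, mul_comm, mul_nsmul]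
  obtain ⟨r, hr⟩ := hc
  rw [hr, mul_nsmul, smul_gen hpm, nsmul_zero, nsmul_zero]

theorem order_eq_translate (hp : p.Prime) (hpm : p ∣ m) {c : ZMod m} (hc : p ∣ addOrderOf c)
    (hc' : p ∣ addOrderOf (c + gen m p)) : addOrderOf (c + gen m p) = addOrderOf c := by
  refine Nat.dvd_antisymm ?_ ?_
  · simpa using order_dvd_translate hpm hc 1
  · have h := order_dvd_translate hpm hc' (p - 1)
    have e : c + gen m p + (p - 1) • gen m p = c := by
      rw [add_assoc, ← succ_nsmul', Nat.sub_add_cancel hp.one_le, smul_gen hpm, add_zero]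
    rwa [e] at h

theorem order_add_gen (hp : p.Prime) (hpm : p ∣ m) {h : ZMod m} (hh : ¬ p ∣ addOrderOf h) {j : ℕ}
    (hj0 : j ≠ 0) (hjp : j < p) : addOrderOf (h + j • gen m p) = addOrderOf h * p := by
  have ho : addOrderOf (j • gen m p) = p := by
    have hcop : (addOrderOf (gen m p)).Coprime j := by
      rw [addOrderOf_gen hpm]
      exact hp.coprime_iff_not_dvd.2 fun hd => hjp.not_ge (Nat.le_of_dvd (Nat.pos_of_ne_zero hj0) hd)
    rw [hcop.addOrderOf_nsmul, addOrderOf_gen hpm]
  rw [(AddCommute.all h _).addOrderOf_add_eq_mul_addOrderOf_of_coprime, ho]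
  rw [ho]
  exact (hp.coprime_iff_not_dvd.2 hh).symm

theorem push_rat (f : Pt m → ℤ) (hf : IsRat f) (p : ℕ) (k : (ZMod m)ˣ) (c : ZMod m) :
    push p f ((k : ZMod m) * c) = push p f c := by
  simp only [push, Finset.sum_filter]
  rw [← Equiv.sum_comp k.mulLeft]
  refine Finset.sum_congr rfl fun i _ => ?_
  simp only [Units.mulLeft_apply, hf k i, ← mul_smul_comm, mul_right_inj_of_invertible,
    Units.mul_right_inj]

theorem push_same_order (f : Pt m → ℤ) (hf : IsRat f) (p : ℕ) {c d : ZMod m}
    (h : addOrderOf c = addOrderOf d) : push p f c = push p f d := by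
  obtain ⟨k, rfl⟩ := exists_unit_of_order h
  exact (push_rat f hf p k c).symm

namespace Scheme

variable (S : Scheme m)

theorem exists_good_odd (hp : p.Prime) (hodd : Odd p) (hpm : p ∣ m) {X : Pt m → ℤ} {c₀ : ZMod m}
    (hX : X ∈ S.Inv) (hset : IsSet X) (hrat : IsRat X) (_h0 : X orig = 0) (hc₀ : X (false, c₀) = 1)
    (hatom : ∀ f ∈ S.Inv, IsRat f → ∀ z, X z = 1 → f z = f (false, c₀))
    (hord : p ∣ addOrderOf c₀) (hgen : X (false, gen m p) = 0) : ∃ W, S.Good p W := by
  classical
  set g := pw X p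
  set f : Pt m → ℤ := fun z => g z % p with hfdef
  have hf : f ∈ S.Inv := S.map_mem (S.pw_mem hX p) fun a => a % p
  have hfc : ∀ c, f (false, c) = push p X c % p := fun c =>
    Int.emod_eq_emod_iff_emod_sub_eq_zero.2 (Int.emod_eq_zero_of_dvd (S.pw_cyclic_odd hp hodd hX c))
  have hfrat : IsRat f := fun k c => by rw [hfc, hfc, push_rat X hrat p k c]
  have hbig : ∀ c, p ∣ addOrderOf c → f (false, c) = 0 := fun c hc => by
    rw [hfc]
    refine Int.emod_eq_zero_of_dvd ?_
    rw [push]
    rcases (Finset.univ.filter fun i : ZMod m => p • i = c).eq_empty_or_nonempty with he | ⟨i₀, hi₀⟩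
    · rw [he, Finset.sum_empty]; exact dvd_zero _
    · have hi₀' : p • i₀ = c := (Finset.mem_filter.1 hi₀).2
      suffices hcon : ∀ j, X (false, i₀ + j • gen m p) = X (false, i₀) by
        rw [sum_fiber hpm hi₀', Finset.sum_congr rfl fun j _ => hcon j, Finset.sum_const,
          Finset.card_range, nsmul_eq_mul]
        exact dvd_mul_right _ _
      intro j
      · have key : ∀ i, p • i = c → addOrderOf i = addOrderOf c * p := fun i hi => by
          have hpi : p ∣ addOrderOf i := hc.trans (by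
            rw [← hi]
            exact addOrderOf_dvd_of_nsmul_eq_zero (by
              rw [← mul_nsmul, mul_comm, mul_nsmul, addOrderOf_nsmul_eq_zero, nsmul_zero]))
          have := addOrderOf_nsmul' i hp.ne_zero
          rw [hi, Nat.gcd_eq_right hpi] at this
          rw [this, Nat.div_mul_cancel hpi]
        refine hrat.of_order ?_
        rw [key _ hi₀', key]
        rw [nsmul_add, hi₀', ← mul_nsmul, mul_comm, mul_nsmul, smul_gen hpm, nsmul_zero, add_zero]
  have hsmall : ∀ h, ¬ p ∣ addOrderOf h →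
      f (false, h) = (X (false, h) - X (false, h + gen m p)) % p := fun h hh => by
    rw [hfc, push_same_order X hrat p (d := p • h) (by
      rw [addOrderOf_nsmul' h hp.ne_zero,
        Nat.Coprime.gcd_eq_one ((hp.coprime_iff_not_dvd.2 hh).symm), Nat.div_one]),
      push, sum_fiber hpm rfl, Finset.range_eq_Ico, Finset.sum_eq_sum_Ico_succ_bot hp.pos]
    simp only [zero_nsmul, add_zero]
    have hsame : ∀ j ∈ Finset.Ico (0 + 1) p, X (false, h + j • gen m p) = X (false, h + gen m p) := by
      intro j hj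
      rw [Finset.mem_Ico] at hj
      refine hrat.of_order ?_
      have e1 := order_add_gen hp hpm hh one_ne_zero hp.one_lt
      rw [one_nsmul] at e1
      rw [order_add_gen hp hpm hh (by omega) hj.2, e1]
    rw [Finset.sum_congr rfl hsame, Finset.sum_const, Nat.card_Ico,
      nsmul_eq_mul, Nat.cast_sub hp.one_le]
    refine Int.emod_eq_emod_iff_emod_sub_eq_zero.2 (Int.emod_eq_zero_of_dvd ⟨X (false, h + gen m p), ?_⟩)
    push_cast
    ring
  have hp1 : (1 : ℤ) < p := by exact_mod_cast hp.one_lt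
  have hclosed : ∀ h, ¬ p ∣ addOrderOf h → X (false, h) = 1 → X (false, h + gen m p) = 1 := by
    intro h hh hXh
    have h1 := hatom f hf hfrat (false, h) hXh
    rw [hsmall h hh, hbig c₀ hord, hXh] at h1
    rcases hset (false, h + gen m p) with e | e
    · rw [e, sub_zero, Int.emod_eq_of_lt zero_le_one hp1] at h1
      exact absurd h1 one_ne_zero
    · exact e
  set W : Pt m → ℤ := fun z => if X z = 1 ∨ f z = (-1 : ℤ) % p then 1 else 0 with hWdef
  have hm1 : (-1 : ℤ) % p ≠ 0 := fun h => hp.one_lt.ne' (Nat.dvd_one.1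
    (Int.natCast_dvd_natCast.1 (by simpa using Int.dvd_of_emod_eq_zero h)))
  have hWbig : ∀ c, p ∣ addOrderOf c → W (false, c) = X (false, c) := fun c hc => by
    simp only [hWdef, hbig c hc, Ne.symm hm1, or_false]
    rcases hset (false, c) with e | e <;> simp [e]
  have hWsmall : ∀ h, ¬ p ∣ addOrderOf h → W (false, h) = X (false, h + gen m p) := fun h hh => by
    simp only [hWdef, hsmall h hh]
    rcases hset (false, h) with e | e
    · rcases hset (false, h + gen m p) with e' | e'
      · simp [e, e', Ne.symm hm1]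
      · simp [e, e']
    · simp [e, hclosed h hh e]
  refine ⟨W, hp, hpm, hX |> fun h => S.pointwise (fun a b => if a = 1 ∨ b = (-1 : ℤ) % p then 1 else 0) h hf,
    fun z => by simp only [hWdef]; split_ifs <;> simp, fun k c => by simp only [hWdef, hrat k c, hfrat k c],
    ?_, fun c => ?_, ⟨c₀, by rw [hWbig c₀ hord, hc₀]⟩⟩
  · rw [orig, hWsmall 0 (by rw [addOrderOf_zero]; exact hp.not_dvd_one), zero_add, hgen]
  · show W (false, c + gen m p) = W (false, c)
    by_cases h1 : p ∣ addOrderOf c
    · by_cases h2 : p ∣ addOrderOf (c + gen m p)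
      · rw [hWbig _ h1, hWbig _ h2, hrat.of_order (order_eq_translate hp hpm h1 h2)]
      · rw [hWbig _ h1, hWsmall _ h2]
        refine hrat.of_order ?_
        have hc : addOrderOf (c + gen m p + (p - 1) • gen m p) = addOrderOf (c + gen m p) * p :=
          order_add_gen hp hpm h2 (by have := hp.two_le; omega) (by have := hp.pos; omega)
        have e : c + gen m p + (p - 1) • gen m p = c := by
          rw [add_assoc, ← succ_nsmul', Nat.sub_add_cancel hp.one_le, smul_gen hpm, add_zero]
        rw [e] at hc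
        have e1 := order_add_gen hp hpm h2 one_ne_zero hp.one_lt
        rw [one_nsmul] at e1
        rw [hc, e1]
    · have h2 : p ∣ addOrderOf (c + gen m p) := by
        have e1 := order_add_gen hp hpm h1 one_ne_zero hp.one_lt
        rw [one_nsmul] at e1
        exact e1 ▸ dvd_mul_left _ _
      rw [hWsmall _ h1, hWbig _ h2]

/-- Every rational kernel is constant off the origin. -/
theorem rat_trivial {f : Pt m → ℤ} (hf : f ∈ S.Inv) (hr : IsRat f) :
    ∀ z, z ≠ orig → f z = f (false, 1) := by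
  classical
  have hm2 := S.two_le
  have : Fact (1 < m) := ⟨hm2⟩
  suffices hC : ∀ c, c ≠ 0 → f (false, c) = f (false, 1) by
    intro z hz
    have h := S.eq_of_cyclic (S.pointwise (fun a d => (1 - d) * a) hf S.delta_mem)
      (S.map_mem S.delta_mem fun d => (1 - d) * f (false, 1)) fun c => by
        rcases eq_or_ne c 0 with rfl | hc
        · simp [delta, orig]
        · rw [hC c hc]
    have := congrFun h z
    simpa [delta, hz] using this
  have key : ∀ q, q.Prime → Odd q → q ∣ m → ∀ c, q ∣ addOrderOf c → f (false, c) = f (false, gen m q) := by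
    intro q hq hqo hqm c hc
    have hc0 : c ≠ 0 := fun e => by
      rw [e, addOrderOf_zero] at hc; exact hq.not_dvd_one hc
    obtain ⟨X, hX, hset, hrat, h0, h1, hatom⟩ := S.exists_class hc0
    rcases hset (false, gen m q) with hg | hg
    · obtain ⟨W, hW⟩ := S.exists_good_odd hq hqo hqm hX hset hrat h0 h1 hatom hc hg
      exact (hW.odd_false fun e => by rw [e] at hqo; exact absurd hqo (by decide)).elim
    · exact (hatom f hf hr _ hg).symm
  have hmdvd : ∀ c : ZMod m, addOrderOf c ∣ m := fun c =>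
    addOrderOf_dvd_of_nsmul_eq_zero (by simp)
  obtain ⟨k, o, hno, hmo⟩ : ∃ k o, ¬ 2 ∣ o ∧ m = 2 ^ k * o :=
    Nat.exists_eq_pow_mul_and_not_dvd (NeZero.ne m) 2 (by norm_num)
  have hoodd : Odd o := Nat.odd_iff.2 (by omega)
  have hsmall : ∀ c : ZMod m, 2 ^ k • c ≠ 0 → ∃ q, q.Prime ∧ Odd q ∧ q ∣ addOrderOf c := by
    intro c hc
    by_contra hno'
    push Not at hno'
    refine hc ((addOrderOf_dvd_iff_nsmul_eq_zero).1 ?_)
    have h1 : (addOrderOf c).Coprime o := Nat.coprime_of_dvd fun q hq hq1 hq2 => hno' q hq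
      (hq.odd_of_ne_two fun e => hno (e ▸ hq2)) hq1
    exact h1.dvd_of_dvd_mul_right (hmo ▸ hmdvd c)
  -- all elements whose order has an odd prime divisor
  have hbigeq : ∀ c d : ZMod m, 2 ^ k • c ≠ 0 → 2 ^ k • d ≠ 0 → f (false, c) = f (false, d) := by
    intro c d hc hd
    obtain ⟨q, hq, hqo, hqc⟩ := hsmall c hc
    obtain ⟨r, hr', hro, hrd⟩ := hsmall d hd
    have hqm := hqc.trans (hmdvd c)
    have hrm := hrd.trans (hmdvd d)
    rw [key q hq hqo hqm c hqc, key r hr' hro hrm d hrd]
    rcases eq_or_ne q r with rfl | hne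
    · rfl
    have hqr : ¬ r ∣ addOrderOf (gen m q) := by
      rw [addOrderOf_gen hqm]; exact fun h => hne ((Nat.prime_dvd_prime_iff_eq hr' hq).1 h).symm
    have e := order_add_gen hr' hrm hqr one_ne_zero hr'.one_lt
    rw [one_nsmul, addOrderOf_gen hqm] at e
    rw [← key q hq hqo hqm _ (e ▸ dvd_mul_right q r), key r hr' hro hrm _ (e ▸ dvd_mul_left r q)]
  by_contra hcon
  push Not at hcon
  obtain ⟨c₁, hc₁, hne⟩ := hcon
  rcases Nat.eq_zero_or_pos k with rfl | hk
  · exact hne (hbigeq c₁ 1 (by simpa using hc₁) (by simp))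
  have h2m : 2 ∣ m := hmo ▸ dvd_mul_of_dvd_left (dvd_pow_self 2 hk.ne') o
  have hgen0 : gen m 2 ≠ 0 := fun e => by
    have := addOrderOf_gen (m := m) h2m
    rw [e, addOrderOf_zero] at this
    omega
  -- a class avoiding the involution
  obtain ⟨c₂, hc₂, hne₂⟩ : ∃ c, c ≠ 0 ∧ f (false, c) ≠ f (false, gen m 2) := by
    by_contra hall
    push Not at hall
    exact hne ((hall c₁ hc₁).trans (hall 1 one_ne_zero).symm)
  obtain ⟨X, hX, hset, hrat, h0, h1, hatom⟩ := S.exists_class hc₂
  have hXg : X (false, gen m 2) = 0 := (hset _).resolve_right fun e => hne₂ (hatom f hf hr _ e).symm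
  have hgk : 2 ^ k • gen m 2 = 0 := by
    obtain ⟨l, rfl⟩ := Nat.exists_eq_succ_of_ne_zero hk.ne'
    rw [pow_succ, mul_comm, mul_nsmul, smul_gen h2m, nsmul_zero]
  -- the cyclic part of the class is a union of cosets
  have hper_of : (∀ c, 2 ^ k • c ≠ 0 → X (false, c + gen m 2) = X (false, c)) →
      S.Good 2 X := fun hout => by
    refine ⟨Nat.prime_two, h2m, hX, hset, hrat, h0, fun c => ?_, ⟨c₂, h1⟩⟩
    show X (false, c + gen m 2) = X (false, c)
    by_cases hc : 2 ^ k • c = 0
    · rcases eq_or_ne c 0 with rfl | hc0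
      · rw [zero_add, hXg]; exact h0.symm
      rcases eq_or_ne (c + gen m 2) 0 with he | he
      · have : c = gen m 2 := by
          rw [eq_neg_of_add_eq_zero_left he]
          exact neg_eq_of_add_eq_zero_left (by rw [← two_nsmul, smul_gen h2m])
        rw [he, this, hXg]; exact h0
      have heven : ∀ d : ZMod m, d ≠ 0 → 2 ^ k • d = 0 → 2 ∣ addOrderOf d := fun d hd0 hdk => by
        obtain ⟨l, -, hl⟩ := (Nat.dvd_prime_pow Nat.prime_two).1 (addOrderOf_dvd_of_nsmul_eq_zero hdk)
        rcases l with - | l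
        · exact absurd (AddMonoid.addOrderOf_eq_one_iff.1 (by simpa using hl)) hd0
        · exact hl ▸ dvd_pow_self 2 l.succ_ne_zero
      exact hrat.of_order (order_eq_translate Nat.prime_two h2m (heven c hc0 hc)
        (heven _ he (by rw [nsmul_add, hc, hgk, add_zero])))
    · exact hout c hc
  rcases eq_or_ne o 1 with rfl | ho1
  · obtain ⟨l, rfl⟩ := Nat.exists_eq_succ_of_ne_zero hk.ne'
    rw [mul_one] at hmo
    refine (hper_of fun c hc => absurd ?_ hc).power_false hmo
    rw [← addOrderOf_dvd_iff_nsmul_eq_zero]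
    exact (hmdvd c).trans hmo.dvd
  have : NeZero o := ⟨by rintro rfl; simp at hmo; exact NeZero.ne m hmo⟩
  have hom : o ∣ m := hmo ▸ dvd_mul_left _ _
  have hker : ∀ c : ZMod m, 2 ^ k • c = 0 → ZMod.castHom hom (ZMod o) c = 0 := fun c hc => by
    have h := congrArg (ZMod.castHom hom (ZMod o)) hc
    rw [map_nsmul, map_zero, nsmul_eq_mul] at h
    have hu : IsUnit ((2 ^ k : ℕ) : ZMod o) := (ZMod.isUnit_iff_coprime _ _).2
      (Nat.Coprime.pow_left k ((Nat.prime_two.coprime_iff_not_dvd).2 hno))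
    exact hu.mul_right_eq_zero.1 h
  have hkg : ∀ c : ZMod m, 2 ^ k • c ≠ 0 → 2 ^ k • (c + gen m 2) ≠ 0 := fun c hc => by
    rwa [nsmul_add, hgk, add_zero]
  -- the value of the class outside the kernel is constant
  have hXeq : ∀ c d : ZMod m, 2 ^ k • c ≠ 0 → 2 ^ k • d ≠ 0 → X (false, c) = X (false, d) := by
    intro c d hc hd
    obtain ⟨q, hq, hqo, hqc⟩ := hsmall c hc
    obtain ⟨r, hr', hro, hrd⟩ := hsmall d hd
    have hqm := hqc.trans (hmdvd c)
    have hrm := hrd.trans (hmdvd d)
    have kX : ∀ q, q.Prime → Odd q → q ∣ m → ∀ c, q ∣ addOrderOf c →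
        X (false, c) = X (false, gen m q) := by
      intro q hq hqo hqm c hc
      have hc0 : c ≠ 0 := fun e => by
        rw [e, addOrderOf_zero] at hc; exact hq.not_dvd_one hc
      obtain ⟨Y, hY, hYset, hYrat, hY0, hY1, hYatom⟩ := S.exists_class hc0
      rcases hYset (false, gen m q) with hg | hg
      · obtain ⟨W, hW⟩ := S.exists_good_odd hq hqo hqm hY hYset hYrat hY0 hY1 hYatom hc hg
        exact (hW.odd_false fun e => by rw [e] at hqo; exact absurd hqo (by decide)).elim
      · exact (hYatom X hX hrat _ hg).symm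
    rw [kX q hq hqo hqm c hqc, kX r hr' hro hrm d hrd]
    rcases eq_or_ne q r with rfl | hne'
    · rfl
    have hqr : ¬ r ∣ addOrderOf (gen m q) := by
      rw [addOrderOf_gen hqm]; exact fun h => hne' ((Nat.prime_dvd_prime_iff_eq hr' hq).1 h).symm
    have e := order_add_gen hr' hrm hqr one_ne_zero hr'.one_lt
    rw [one_nsmul, addOrderOf_gen hqm] at e
    rw [← kX q hq hqo hqm _ (e ▸ dvd_mul_right q r), kX r hr' hro hrm _ (e ▸ dvd_mul_left r q)]
  refine (hper_of fun c hc => hXeq _ _ (hkg c hc) hc).mixed_false hom hoodd ho1 ?_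
  have h1o : (1 : ZMod o) ≠ 0 := fun e => ho1 (by simpa using (ZMod.one_eq_zero_iff).1 e)
  have hone : 2 ^ k • (1 : ZMod m) ≠ 0 := fun e => h1o (by have h := hker 1 e; rwa [map_one] at h)
  rcases hset (false, 1) with e | e
  · exact Or.inl fun c hc => by rw [hXeq c 1 (fun h => hc (hker c h)) hone, e]
  · exact Or.inr fun c hc => by rw [hXeq c 1 (fun h => hc (hker c h)) hone, e]

theorem sum_mem {α : Type*} (s : Finset α) (F : α → Pt m → ℤ) (h : ∀ a ∈ s, F a ∈ S.Inv) :
    (fun z => ∑ a ∈ s, F a z) ∈ S.Inv := by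
  classical
  induction s using Finset.induction with
  | empty => simpa using S.const_mem 0
  | insert a s ha ih =>
    simp only [Finset.sum_insert ha]
    exact S.pointwise (· + ·) (h a (Finset.mem_insert_self a s))
      (ih fun b hb => h b (Finset.mem_insert_of_mem hb))

/-- An atom: a minimal invariant set. -/
theorem exists_atom {c : ZMod m} (hc : c ≠ 0) :
    ∃ T ∈ S.Inv, IsSet T ∧ T orig = 0 ∧ T (false, c) = 1 ∧
      ∀ f ∈ S.Inv, ∀ z, T z = 1 → f z = f (false, c) := by
  classical
  let P : ℕ → Prop := fun n => ∃ X ∈ S.Inv, IsSet X ∧ X orig = 0 ∧ X (false, c) = 1 ∧ total X = n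
  have hset1 : IsSet fun z : Pt m => 1 - delta z := fun z => by
    simp only [delta]; split_ifs <;> simp
  have hex : ∃ n, P n := ⟨(total fun z : Pt m => 1 - delta z).toNat, _,
    S.map_mem S.delta_mem fun a => 1 - a, hset1, by simp [delta], by simp [delta, orig, hc],
    (Int.toNat_of_nonneg (abs_total_le hset1).1).symm⟩
  obtain ⟨X, hX, hset, h0, h1, htot⟩ := Nat.find_spec hex
  refine ⟨X, hX, hset, h0, h1, fun f hf z hz => ?_⟩
  by_contra hne
  set Y : Pt m → ℤ := fun z => if f z = f (false, c) then X z else 0 with hYdef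
  have hY : Y ∈ S.Inv := S.pointwise (fun a b => if a = f (false, c) then b else 0) hf hX
  have hYset : IsSet Y := fun z => by simp only [hYdef]; split_ifs <;> simp [hset z]
  have hlt : total Y < total X := by
    refine Finset.sum_lt_sum (fun w _ => ?_) ⟨z, Finset.mem_univ _, ?_⟩
    · simp only [hYdef]; split_ifs
      · exact le_rfl
      · rcases hset w with h | h <;> simp [h]
    · simp only [hYdef]; rw [if_neg hne, hz]; exact zero_lt_one
  have hY0 := (abs_total_le hYset).1
  exact Nat.find_min hex (m := (total Y).toNat) (by omega)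
    ⟨Y, hY, hYset, by simp [hYdef, h0], by simp [hYdef, h1], (Int.toNat_of_nonneg hY0).symm⟩

/-- The scheme is trivial. -/
theorem trivial {f : Pt m → ℤ} (hf : f ∈ S.Inv) (z : Pt m) (hz : z ≠ orig) : f z = f (false, 1) := by
  classical
  have : Fact (1 < m) := ⟨S.two_le⟩
  obtain ⟨T, hT, hTset, hT0, hT1, hTatom⟩ := S.exists_atom (one_ne_zero : (1 : ZMod m) ≠ 0)
  choose Y hY hYset hYT hYtot using fun k : (ZMod m)ˣ => S.exists_multiplier hT hTset k
  have hYdisj : ∀ k l c, Y k (false, c) = 1 → Y l (false, c) = 1 → Y k = Y l := by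
    have hsub : ∀ k l c, Y k (false, c) = 1 → Y l (false, c) = 1 →
        ∀ d, Y k (false, d) = 1 → Y l (false, d) = 1 := by
      intro k l c hk hl d hd
      obtain ⟨V, hV, hVset, hVY, -⟩ := S.exists_multiplier (hY l) (hYset l) k⁻¹
      have e : ∀ c, V (false, ((k⁻¹ : (ZMod m)ˣ) : ZMod m) * c) = Y l (false, c) := hVY
      have hT' : ∀ c, Y k (false, c) = T (false, ((k⁻¹ : (ZMod m)ˣ) : ZMod m) * c) := fun c => by
        rw [← hYT k, ← mul_assoc, Units.mul_inv, one_mul]
      rw [hT'] at hk hd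
      rw [← e, hTatom V hV _ hd, ← hTatom V hV _ hk, e, hl]
    intro k l c hk hl
    refine S.eq_of_cyclic (hY k) (hY l) fun d => ?_
    rcases hYset k (false, d) with h | h
    · rcases hYset l (false, d) with h' | h'
      · rw [h, h']
      · rw [hsub l k c hl hk d h'] at h; exact absurd h one_ne_zero
    · rw [h, hsub k l c hk hl d h]
  set 𝒴 := Finset.univ.image Y
  set U : Pt m → ℤ := fun z => ∑ A ∈ 𝒴, A z with hUdef
  have hU : U ∈ S.Inv := S.sum_mem 𝒴 (fun A => A) fun A hA => by
    obtain ⟨k, -, rfl⟩ := Finset.mem_image.1 hA; exact hY k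
  have hUone : ∀ k c, Y k (false, c) = 1 → U (false, c) = 1 := fun k c hk => by
    simp only [hUdef]
    rw [Finset.sum_eq_single (Y k) (fun A hA hne => ?_) (fun h => absurd (Finset.mem_image_of_mem Y (Finset.mem_univ k)) h), hk]
    obtain ⟨l, -, rfl⟩ := Finset.mem_image.1 hA
    exact (hYset l _).resolve_right fun h => hne (hYdisj l k c h hk)
  have hUcases : ∀ c, (∃ k, Y k (false, c) = 1) ∨ U (false, c) = 0 := fun c => by
    by_cases h : ∃ k, Y k (false, c) = 1
    · exact Or.inl h
    · push Not at h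
      refine Or.inr (Finset.sum_eq_zero fun A hA => ?_)
      obtain ⟨k, -, rfl⟩ := Finset.mem_image.1 hA
      exact (hYset k _).resolve_right (h k)
  have hmove : ∀ k l c, Y l (false, c) = 1 → Y (k * l) (false, (k : ZMod m) * c) = 1 := fun k l c h => by
    have e : c = (l : ZMod m) * (((l⁻¹ : (ZMod m)ˣ) : ZMod m) * c) := by
      rw [← mul_assoc, Units.mul_inv, one_mul]
    rw [e, hYT] at h
    rw [e, ← mul_assoc, ← Units.val_mul, hYT, h]
  have hUrat : IsRat U := fun k c => by
    rcases hUcases c with ⟨l, hl⟩ | h0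
    · rw [hUone l c hl, hUone (k * l) _ (hmove k l c hl)]
    · rcases hUcases ((k : ZMod m) * c) with ⟨l, hl⟩ | h0'
      · have := hmove k⁻¹ l _ hl
        rw [← mul_assoc, Units.inv_mul, one_mul] at this
        rw [hUone _ _ hl, hUone _ _ this]
      · rw [h0, h0']
  have hY1 : Y 1 (false, 1) = 1 := by simpa [hT1] using hYT 1 1
  have hUtriv : ∀ z, z ≠ orig → U z = 1 := fun z hz => by
    rw [S.rat_trivial hU hUrat z hz, hUone 1 1 hY1]
  have hYorig : ∀ k, Y k orig = 0 := fun k => by
    have := hYT k 0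
    rw [mul_zero] at this
    rw [orig, this]; exact hT0
  have hUorig : U orig = 0 := Finset.sum_eq_zero fun A hA => by
    obtain ⟨k, -, rfl⟩ := Finset.mem_image.1 hA; exact hYorig k
  have hUeq : ∀ z, U z = 1 - delta z := fun z => by
    rcases eq_or_ne z orig with rfl | h
    · simp [hUorig, delta]
    · simp [hUtriv z h, delta, h]
  set d : ℤ := (𝒴.card : ℤ)
  have htot : d * total T = 2 * m - 1 := by
    have h1 : ∑ z, U z = ∑ A ∈ 𝒴, total A := by rw [hUdef]; exact Finset.sum_comm
    rw [Finset.sum_congr rfl fun A hA => show total A = total T by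
      obtain ⟨k, -, rfl⟩ := Finset.mem_image.1 hA; exact hYtot k, Finset.sum_const, nsmul_eq_mul,
      Finset.sum_congr rfl fun z _ => hUeq z] at h1
    rw [← h1]
    simp [delta, Finset.sum_sub_distrib]
  have hp : ∀ p, p.Prime → p ∣ m → d ∣ (p : ℤ) - 1 := by
    intro p hp hpm
    set K := Finset.univ.filter fun c : ZMod m => p • c = 0
    have hK : ∀ k, ∑ c ∈ K, Y k (false, c) = ∑ c ∈ K, T (false, c) := fun k => by
      simp only [K, Finset.sum_filter]
      rw [← Equiv.sum_comp k.mulLeft]
      refine Finset.sum_congr rfl fun i _ => ?_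
      simp only [Units.mulLeft_apply, hYT k i, ← mul_smul_comm, Units.mul_right_eq_zero]
    have hcard : (K.card : ℤ) = p := by
      have := sum_fiber hpm (nsmul_zero p) (fun _ : ZMod m => (1 : ℤ))
      rw [Finset.sum_const, Finset.sum_const, Finset.card_range, nsmul_one, nsmul_one] at this
      exact this
    refine ⟨∑ c ∈ K, T (false, c), ?_⟩
    have h1 : ∑ c ∈ K, U (false, c) = ∑ A ∈ 𝒴, ∑ c ∈ K, A (false, c) := by
      rw [hUdef]; exact Finset.sum_comm
    have hA' : ∀ A ∈ 𝒴, ∑ c ∈ K, A (false, c) = ∑ c ∈ K, T (false, c) := fun A hA => by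
      obtain ⟨k, -, rfl⟩ := Finset.mem_image.1 hA; exact hK k
    rw [Finset.sum_congr rfl hA', Finset.sum_const, nsmul_eq_mul,
      Finset.sum_congr rfl fun c _ => hUeq (false, c), Finset.sum_sub_distrib] at h1
    rw [← h1]
    have h0K : (0 : ZMod m) ∈ K := by simp [K]
    simp [delta, orig, hcard, h0K, Finset.sum_ite_eq']
  have hd1 : 𝒴.card = 1 := by
    have hm1 : ((m : ℕ) : ZMod 𝒴.card) = 1 := by
      refine (congrArg (Nat.cast : ℕ → ZMod 𝒴.card) (Nat.prod_primeFactorsList (NeZero.ne m)).symm).trans ?_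
      rw [Nat.cast_list_prod]
      refine List.prod_eq_one fun x hx => ?_
      obtain ⟨q, hq, rfl⟩ := List.mem_map.1 hx
      have := (ZMod.intCast_zmod_eq_zero_iff_dvd _ 𝒴.card).2
        (hp q (Nat.prime_of_mem_primeFactorsList hq) (Nat.dvd_of_mem_primeFactorsList hq))
      push_cast at this
      exact sub_eq_zero.1 this
    have h2 := (ZMod.intCast_zmod_eq_zero_iff_dvd _ 𝒴.card).2 (⟨total T, htot.symm⟩ : d ∣ 2 * (m : ℤ) - 1)
    push_cast at h2
    rw [hm1] at h2
    exact Nat.dvd_one.1 ((ZMod.natCast_eq_zero_iff 1 _).1 (by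
      rw [Nat.cast_one]; linear_combination h2))
  obtain ⟨A, hA⟩ := Finset.card_eq_one.1 hd1
  have hTA : T = A := by
    have hm' : Y 1 = A := Finset.mem_singleton.1 (hA ▸ Finset.mem_image_of_mem Y (Finset.mem_univ 1))
    rw [← hm']
    exact (S.eq_of_cyclic (hY 1) hT fun c => by simpa using hYT 1 c).symm
  refine hTatom f hf z ?_
  have := hUtriv z hz
  simp only [hUdef, hA, Finset.sum_singleton] at this
  rw [hTA, this]

end Scheme

end CfsgLib.KnownSimple.DihedralB
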