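import Cfsg.Agent.Lib.KnownSimple.DihedralB.Classes

/-!
Rational sets whose cyclic part is periodic: the square is a design, and a counting bound.
-/

set_option autoImplicit false
set_option linter.unusedSectionVars false

namespace CfsgLib.KnownSimple.DihedralB

open AddMonoidAlgebra

variable {m : ℕ} [NeZero m]

/-- The element of order `p`. -/
def gen (m p : ℕ) : ZMod m := ((m / p : ℕ) : ZMod m)

variable {p : ℕ}

theorem addOrderOf_gen (hpm : p ∣ m) : addOrderOf (gen m p) = p := by
  rw [gen, ZMod.addOrderOf_coe _ (NeZero.ne m), Nat.gcd_eq_right (Nat.div_dvd_of_dvd hpm),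
    Nat.div_div_self hpm (NeZero.ne m)]

theorem smul_gen (hpm : p ∣ m) : p • gen m p = 0 := by
  simpa [addOrderOf_gen (m := m) hpm] using addOrderOf_nsmul_eq_zero (gen m p)

theorem smul_eq_zero_iff (hpm : p ∣ m) (i : ZMod m) : p • i = 0 ↔ ∃ j < p, i = j • gen m p := by
  refine ⟨fun h => ?_, ?_⟩
  · have hp : 0 < p := Nat.pos_of_ne_zero fun h0 => NeZero.ne m (by simpa [h0] using hpm)
    rw [nsmul_eq_mul, ← ZMod.natCast_zmod_val i, ← Nat.cast_mul, ZMod.natCast_eq_zero_iff] at h
    obtain ⟨r, hr⟩ := hpm
    have hdiv : m / p = r := by rw [hr, Nat.mul_div_cancel_left _ hp]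
    obtain ⟨j, hj⟩ : r ∣ i.val := Nat.dvd_of_mul_dvd_mul_left hp (by rwa [← hr])
    refine ⟨j, ?_, ?_⟩
    · have h1 := ZMod.val_lt i
      exact Nat.lt_of_mul_lt_mul_left (a := r) (by rw [← hj, mul_comm r, ← hr]; exact h1)
    · conv_lhs => rw [← ZMod.natCast_zmod_val i, hj]
      rw [gen, hdiv, nsmul_eq_mul, Nat.cast_mul, mul_comm]
  · rintro ⟨j, -, rfl⟩
    rw [← mul_nsmul, mul_comm, mul_nsmul, smul_gen hpm, nsmul_zero]

theorem card_fiber (hpm : p ∣ m) {c : ZMod m} {i₀ : ZMod m} (hi₀ : p • i₀ = c) :
    (Finset.univ.filter fun i : ZMod m => p • i = c) =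
      (Finset.range p).image fun j => i₀ + j • gen m p := by
  ext i
  simp only [Finset.mem_filter, Finset.mem_univ, true_and, Finset.mem_image, Finset.mem_range]
  constructor
  · intro h
    obtain ⟨j, hj, hij⟩ := (smul_eq_zero_iff hpm (i - i₀)).1 (by rw [nsmul_sub, h, hi₀, sub_self])
    exact ⟨j, hj, by rw [← hij]; abel⟩
  · rintro ⟨j, -, rfl⟩
    rw [nsmul_add, hi₀, (smul_eq_zero_iff hpm _).2 ⟨j % p, Nat.mod_lt _ ?_, ?_⟩, add_zero]
    · exact Nat.pos_of_ne_zero fun h0 => NeZero.ne m (by simpa [h0] using hpm)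
    · have h := mod_addOrderOf_nsmul (gen m p) j
      rw [addOrderOf_gen hpm] at h
      exact h.symm

theorem sum_fiber (hpm : p ∣ m) {c i₀ : ZMod m} (hi₀ : p • i₀ = c) (h : ZMod m → ℤ) :
    ∑ i with p • i = c, h i = ∑ j ∈ Finset.range p, h (i₀ + j • gen m p) := by
  rw [card_fiber hpm hi₀, Finset.sum_image]
  intro a ha b hb hab
  rw [Finset.coe_range, Set.mem_Iio] at ha hb
  refine nsmul_injOn_Iio_addOrderOf ?_ ?_ (add_left_cancel hab) <;>
    rwa [Set.mem_Iio, addOrderOf_gen hpm]

/-- Invariance under translation by the element of order `p`. -/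
def Per (p : ℕ) (h : ZMod m → ℤ) : Prop := ∀ c, h (c + gen m p) = h c

theorem Per.apply_smul {h : ZMod m → ℤ} (hh : Per p h) (c : ZMod m) :
    ∀ j : ℕ, h (c + j • gen m p) = h c
  | 0 => by rw [zero_nsmul, add_zero]
  | j + 1 => by rw [succ_nsmul, ← add_assoc, hh, hh.apply_smul c j]

theorem Per.sub {h : ZMod m → ℤ} (hh : Per p h) (c : ZMod m) : h (c - gen m p) = h c := by
  conv_rhs => rw [← sub_add_cancel c (gen m p)]
  exact (hh _).symm

theorem Per.dvd_fiber (hpm : p ∣ m) {h : ZMod m → ℤ} (hh : Per p h) (c : ZMod m) :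
    (p : ℤ) ∣ ∑ i with p • i = c, h i := by
  rcases (Finset.univ.filter fun i : ZMod m => p • i = c).eq_empty_or_nonempty with he | ⟨i₀, hi₀⟩
  · rw [he, Finset.sum_empty]; exact dvd_zero _
  · rw [sum_fiber hpm (Finset.mem_filter.1 hi₀).2,
      Finset.sum_congr rfl fun j _ => hh.apply_smul i₀ j, Finset.sum_const, Finset.card_range,
      nsmul_eq_mul]
    exact dvd_mul_right _ _

theorem Per.dvd_sum (hpm : p ∣ m) {h : ZMod m → ℤ} (hh : Per p h) : (p : ℤ) ∣ ∑ i, h i := by
  rw [← Finset.sum_fiberwise Finset.univ (fun i => p • i) h]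
  exact Finset.dvd_sum fun c _ => hh.dvd_fiber hpm c

/-- A fibre sum of a `0`-`1` function divisible by `p` is constant on the fibre. -/
theorem eq_of_dvd_fiber (hp : p.Prime) (hpm : p ∣ m) {h : ZMod m → ℤ} (h01 : ∀ i, h i = 0 ∨ h i = 1)
    {i₀ : ZMod m} (hd : (p : ℤ) ∣ ∑ i with p • i = p • i₀, h i) :
    h (i₀ + gen m p) = h i₀ := by
  rw [sum_fiber hpm rfl] at hd
  have h0 : (0 : ℤ) ≤ ∑ j ∈ Finset.range p, h (i₀ + j • gen m p) :=
    Finset.sum_nonneg fun j _ => by rcases h01 (i₀ + j • gen m p) with h | h <;> omega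
  have hle : ∑ j ∈ Finset.range p, h (i₀ + j • gen m p) ≤ p := by
    refine (Finset.sum_le_card_nsmul _ _ 1 fun j _ => ?_).trans (by simp)
    rcases h01 (i₀ + j • gen m p) with h | h <;> omega
  obtain ⟨t, ht⟩ := hd
  have hp0 : (0 : ℤ) < p := by exact_mod_cast hp.pos
  have ht1 : t = 0 ∨ t = 1 := by
    have h1 : 0 ≤ t := by nlinarith
    have h2 : t ≤ 1 := by nlinarith
    omega
  have hall : ∀ j < p, h (i₀ + j • gen m p) = t := by
    intro j hj
    rcases ht1 with rfl | rfl
    · rw [mul_zero] at ht
      exact (Finset.sum_eq_zero_iff_of_nonneg fun i _ => by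
        rcases h01 (i₀ + i • gen m p) with h | h <;> omega).1 ht j (Finset.mem_range.2 hj)
    · have hz : ∑ i ∈ Finset.range p, (1 - h (i₀ + i • gen m p)) = 0 := by
        rw [Finset.sum_sub_distrib, ht]; simp
      have := (Finset.sum_eq_zero_iff_of_nonneg fun i _ => by
        rcases h01 (i₀ + i • gen m p) with h | h <;> omega).1 hz j (Finset.mem_range.2 hj)
      omega
  have e0 := hall 0 hp.pos
  have e1 := hall 1 hp.one_lt
  rw [zero_nsmul, add_zero] at e0
  rw [one_nsmul] at e1
  rw [e0, e1]

theorem push_eq (p : ℕ) (f : Pt m → ℤ) (c : ZMod m) :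
    push p f c = ∑ i with p • i = c, f (false, i) := rfl

namespace Scheme

variable (S : Scheme m)

theorem off_kernel (hp : p.Prime) (hpm : p ∣ m) {V : Pt m → ℤ} (hV : V ∈ S.Inv) (hset : IsSet V)
    (h1 : Per p fun c => V (true, c)) {c : ZMod m} (hc : p • c ≠ 0) :
    V (false, c + gen m p) = V (false, c) := by
  have hN : ∀ d, (p : ℤ) ∣ ∑ i, V (true, i) * V (true, i - d) := fun d =>
    Per.dvd_sum hpm fun i => by
      have e1 : V (true, i + gen m p) = V (true, i) := h1 i
      have e2 : V (true, i - d + gen m p) = V (true, i - d) := h1 (i - d)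
      show V (true, i + gen m p) * V (true, i + gen m p - d) = _
      rw [show i + gen m p - d = i - d + gen m p by abel, e1, e2]
  obtain ⟨hg0, hg1⟩ := S.pw_of_norm hp hV hN
  have h2 := S.dvd_of_noncyclic (S.pw_mem hV p) hg1 (p • c) hc
  have h3 : (p : ℤ) ∣ push p V (p • c) := by simpa using dvd_sub h2 (hg0 (p • c))
  exact eq_of_dvd_fiber hp hpm (h := fun i => V (false, i)) (fun i => hset _) h3

theorem addOrderOf_kernel (hp : p.Prime) (hpm : p ∣ m) {c : ZMod m} (hc : p • c = 0) (hne : c ≠ 0) :
    addOrderOf c = addOrderOf (gen m p) := by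
  rw [addOrderOf_gen hpm]
  exact addOrderOf_eq_prime hc hne (hp := ⟨hp⟩)

theorem const_of_periodic {f : Pt m → ℤ} (hp : p.Prime) (hpm : p ∣ m) (hf : f ∈ S.Inv)
    (h : ∀ b, Per p fun c => f (b, c)) (x : Pt m) : f x = f orig := by
  refine S.periodic hf (u := gen m p) (fun h0 => hp.one_lt.ne' ?_) (fun b c => h b c) x orig
  rw [← addOrderOf_gen (m := m) hpm, h0, addOrderOf_zero]

/-- A rational set with periodic non-cyclic part is trivial. -/
theorem trivial_of_per (hp : p.Prime) (hpm : p ∣ m) {V : Pt m → ℤ} (hV : V ∈ S.Inv) (hset : IsSet V)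
    (hrat : IsRat V) (h0 : V orig = 0) (h1 : Per p fun c => V (true, c)) :
    ∀ z, z ≠ orig → V z = V (false, gen m p) := by
  have main : ∀ U ∈ S.Inv, IsSet U → IsRat U → U orig = 0 → (Per p fun c => U (true, c)) →
      U (false, gen m p) = 0 → ∀ z, U z = 0 := by
    intro U hU hUset hUrat hU0 hU1 hUg z
    have hK : ∀ c, p • c = 0 → U (false, c) = 0 := fun c hc => by
      rcases eq_or_ne c 0 with rfl | hne
      · exact hU0
      · rw [hUrat.of_order (addOrderOf_kernel hp hpm hc hne), hUg]
    refine (S.const_of_periodic hp hpm hU (fun b => ?_) z).trans hU0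
    cases b
    · intro c
      by_cases hc : p • c = 0
      · show U (false, c + gen m p) = U (false, c)
        rw [hK c hc, hK _ (by rw [nsmul_add, hc, smul_gen hpm, add_zero])]
      · exact S.off_kernel hp hpm hU hUset hU1 hc
    · exact hU1
  intro z hz
  rcases hset (false, gen m p) with hg | hg
  · rw [hg]; exact main V hV hset hrat h0 h1 hg z
  · have hgne : gen m p ≠ (0 : ZMod m) := fun h => hp.one_lt.ne'
      (by rw [← addOrderOf_gen (m := m) hpm, h, addOrderOf_zero])
    have h2 := main (fun w => 1 - delta w - V w)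
      (S.pointwise (fun a b => 1 - a - b) S.delta_mem hV)
      (fun w => by
        rcases eq_or_ne w orig with rfl | hw
        · simp [delta, h0]
        · simp only [delta, if_neg hw]; rcases hset w with h | h <;> simp [h])
      (fun k c => by
        show 1 - delta (false, (k : ZMod m) * c) - V (false, k * c) = 1 - delta (false, c) - V (false, c)
        rw [hrat k c]
        simp [delta, orig, Units.mul_right_eq_zero])
      (by simp [delta, h0])
      (fun c => by
        show 1 - delta (true, c + gen m p) - V (true, c + gen m p) = 1 - delta (true, c) - V (true, c)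
        rw [show V (true, c + gen m p) = V (true, c) from h1 c]
        simp [delta, orig])
      (by simp [delta, orig, hgne, hg]) z
    simp only [delta, if_neg hz] at h2
    omega

/-- A rational kernel with periodic non-cyclic part is constant off the origin. -/
theorem const_of_rat_per (hp : p.Prime) (hpm : p ∣ m) {g : Pt m → ℤ} (hg : g ∈ S.Inv)
    (hrat : IsRat g) (h1 : Per p fun c => g (true, c)) (z : Pt m) (hz : z ≠ orig) :
    g z = g (false, gen m p) := by
  classical
  set a := g z
  let V : Pt m → ℤ := fun w => if g w = a then 1 - delta w else 0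
  have hV := S.trivial_of_per hp hpm (V := V)
    (S.pointwise (fun x d => if x = a then 1 - d else 0) hg S.delta_mem)
    (fun w => by simp only [V, delta]; split_ifs <;> simp)
    (fun k c => by
      simp only [V, hrat k c]
      simp [delta, orig, Units.mul_right_eq_zero])
    (by simp [V, delta])
    (fun c => by
      show V (true, c + gen m p) = V (true, c)
      simp only [V, show g (true, c + gen m p) = g (true, c) from h1 c]
      simp [delta, orig])
    z hz
  by_contra hne
  simp [V, delta, hz, a, Ne.symm hne] at hV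

/-- A rational set with periodic cyclic part not containing the origin. -/
structure Good (p : ℕ) (W : Pt m → ℤ) : Prop where
  prime : p.Prime
  dvd : p ∣ m
  mem : W ∈ S.Inv
  set : IsSet W
  rat : IsRat W
  zero : W orig = 0
  per : Per p fun c => W (false, c)
  pos : ∃ c, W (false, c) = 1

variable {S} {W : Pt m → ℤ}

/-- The size of the cyclic part. -/
def cycSize (W : Pt m → ℤ) : ℤ := ∑ c, W (false, c)

/-- The size of the non-cyclic part. -/
def outSize (W : Pt m → ℤ) : ℤ := ∑ c, W (true, c)

theorem total_eq (f : Pt m → ℤ) : total f = cycSize f + outSize f := by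
  simp [total, cycSize, outSize, Fintype.sum_prod_type, add_comm]

theorem Good.not_per (h : S.Good p W) : ¬ Per p fun c => W (true, c) := fun h1 => by
  obtain ⟨c, hc⟩ := h.pos
  have := S.const_of_periodic h.prime h.dvd h.mem (fun b => by cases b; exacts [h.per, h1]) (false, c)
  rw [hc, h.zero] at this
  exact one_ne_zero this

theorem Good.kernel_zero (h : S.Good p W) : W (false, gen m p) = 0 := by
  have h1 := h.per 0
  simp only [zero_add] at h1
  rw [h1]; exact h.zero

theorem conv_true (hW : W ∈ S.Inv) (d : ZMod m) :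
    conv W W (true, d) = 2 * ∑ i, W (false, i) * W (true, d - i) := by
  have h := S.part_true_conv' W hW
  rw [mul_comm (part true W), ← two_mul] at h
  simp only [part, gr_mul] at h
  rw [two_mul, gr_add] at h
  have h1 := congrFun (gr_injective h) d
  rw [h1, Pi.add_apply, two_mul]

theorem conv_orig (hW : W ∈ S.Inv) (hset : IsSet W) : conv W W orig = total W := by
  refine Finset.sum_congr rfl fun y => fun _ => ?_
  obtain ⟨b, i⟩ := y
  have : W (kdiff (b, i) orig) = W (b, i) := by
    cases b
    · simpa [kdiff, orig] using S.symm_apply hW i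
    · simp [kdiff, orig]
  rw [this]
  rcases hset (b, i) with h | h <;> simp [h]

theorem Good.design (h : S.Good p W) : ∃ n α : ℤ, (∀ z, conv W W z = n * delta z + α) ∧
    n + α = total W ∧ 2 * cycSize W * outSize W = m * α ∧
      n = (cycSize W - outSize W) ^ 2 ∧ 0 < cycSize W ∧ cycSize W < m ∧ 0 < outSize W ∧ outSize W < m := by
  have hper : Per p fun c => conv W W (true, c) := fun c => by
    show conv W W (true, c + gen m p) = conv W W (true, c)
    rw [conv_true h.mem, conv_true h.mem]
    congr 1
    rw [← Equiv.sum_comp (Equiv.addRight (gen m p))]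
    refine Finset.sum_congr rfl fun i _ => ?_
    simp only [Equiv.coe_addRight]
    rw [show W (false, i + gen m p) = W (false, i) from h.per i,
      show c + gen m p - (i + gen m p) = c - i by abel]
  set α := conv W W (false, gen m p)
  have hconst := S.const_of_rat_per h.prime h.dvd (S.conv_mem h.mem h.mem)
    (S.isRat_sq h.mem h.set h.rat) hper
  set n := conv W W orig - α
  have hall : ∀ z, conv W W z = n * delta z + α := fun z => by
    rcases eq_or_ne z orig with rfl | hz
    · simp [delta, n]
    · simp [delta, hz, hconst z hz, α]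
  have hna : n + α = total W := by rw [← conv_orig h.mem h.set]; simp [n]
  have hsum : 2 * cycSize W * outSize W = m * α := by
    have h1 : ∑ d, conv W W (true, d) = ∑ _d : ZMod m, α :=
      Finset.sum_congr rfl fun d _ => by rw [hall]; simp [delta, orig]
    simp only [conv_true h.mem] at h1
    rw [← Finset.mul_sum, Finset.sum_comm] at h1
    simp only [← Finset.mul_sum] at h1
    rw [Finset.sum_congr rfl fun i _ => by
      rw [show ∑ d, W (true, d - i) = outSize W from Equiv.sum_comp (Equiv.subRight i) fun d => W (true, d)],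
      ← Finset.sum_mul] at h1
    simpa [cycSize, mul_assoc] using h1
  have htot : (cycSize W + outSize W) ^ 2 = n + 2 * m * α := by
    rw [← total_eq, sq, ← total_conv, total]
    simp only [hall, Finset.sum_add_distrib, ← Finset.mul_sum]
    simp [delta]
  have hnn : ∀ b c, 0 ≤ W (b, c) ∧ W (b, c) ≤ 1 := fun b c => by
    rcases h.set (b, c) with e | e <;> simp [e]
  obtain ⟨c₀, hc₀⟩ := h.pos
  refine ⟨n, α, hall, hna, hsum, by linear_combination -htot + 2 * hsum, ?_, ?_, ?_, ?_⟩
  · exact lt_of_lt_of_le (by rw [hc₀]; exact zero_lt_one)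
      (Finset.single_le_sum (fun c _ => (hnn false c).1) (Finset.mem_univ c₀))
  · calc cycSize W < ∑ _c : ZMod m, (1 : ℤ) := Finset.sum_lt_sum (fun c _ => (hnn false c).2)
          ⟨0, Finset.mem_univ _, by rw [show W (false, 0) = 0 from h.zero]; exact zero_lt_one⟩
      _ = m := by simp
  · refine lt_of_le_of_ne (Finset.sum_nonneg fun c _ => (hnn true c).1) fun h0 => h.not_per fun c => ?_
    have hz := (Finset.sum_eq_zero_iff_of_nonneg fun c _ => (hnn true c).1).1 h0.symm
    show W (true, c + gen m p) = W (true, c)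
    rw [hz _ (Finset.mem_univ _), hz _ (Finset.mem_univ _)]
  · refine lt_of_le_of_ne ((Finset.sum_le_card_nsmul _ _ 1 fun c _ => (hnn true c).2).trans (by simp))
      fun h0 => h.not_per fun c => ?_
    have hone : ∑ c, (1 - W (true, c)) = 0 := by
      rw [Finset.sum_sub_distrib, show ∑ c, W (true, c) = outSize W from rfl, h0]; simp
    have hz := (Finset.sum_eq_zero_iff_of_nonneg fun c _ => by linarith [(hnn true c).2]).1 hone
    have e1 := hz c (Finset.mem_univ _)
    have e2 := hz (c + gen m p) (Finset.mem_univ _)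
    show W (true, c + gen m p) = W (true, c)
    linarith

/-- The design relations in the group ring. -/
theorem Good.ring_relations (h : S.Good p W) {n α : ℤ} (hall : ∀ z, conv W W z = n * delta z + α) :
    part false W * part false W + part true W * conjHom m ℤ (part true W) =
        n • 1 + α • gr (fun _ => 1) ∧
      2 * (part false W * part true W) = α • gr (fun _ => 1) := by
  have hsmul : ∀ (r : ℤ) (f : ZMod m → ℤ), r • gr f = gr fun c => r * f c := fun r f => by
    simp [gr, Finset.smul_sum, AddMonoidAlgebra.smul_single]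
  constructor
  · rw [← part_false_conv, AddMonoidAlgebra.one_def, ← gr_single_zero, hsmul, hsmul, gr_add, part]
    exact congrArg gr (funext fun c => by simp [hall, delta, orig, Pi.add_apply])
  · rw [two_mul]
    nth_rewrite 2 [mul_comm]
    rw [← S.part_true_conv' W h.mem, hsmul, part]
    exact congrArg gr (funext fun c => by simp [hall, delta, orig])

theorem gr_mul_one (f : ZMod m → ℤ) :
    gr f * gr (fun _ => (1 : ℤ)) = (∑ c, f c) • gr (fun _ => 1) := by
  rw [gr_mul]
  simp [gr, Finset.smul_sum, AddMonoidAlgebra.smul_single]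

theorem Good.cube (h : S.Good p W) {n α : ℤ} (hall : ∀ z, conv W W z = n * delta z + α) :
    2 * part false W ^ 3 = (2 * n) • part false W +
      (2 * α * cycSize W - α * outSize W) • gr (fun _ => 1) := by
  obtain ⟨h1, h2⟩ := h.ring_relations hall
  have e1 : part false W * gr (fun _ => (1 : ℤ)) = cycSize W • gr (fun _ => 1) := gr_mul_one _
  have e2 : conjHom m ℤ (part true W) * gr (fun _ => (1 : ℤ)) = outSize W • gr (fun _ => 1) := by
    rw [part, conjHom_gr, gr_mul_one, outSize,
      ← Equiv.sum_comp (Equiv.neg (ZMod m)) fun c => W (true, c)]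
    rfl
  rw [← Int.cast_smul_eq_zsmul (AddMonoidAlgebra ℤ (ZMod m)), smul_eq_mul] at *
  simp only [← Int.cast_smul_eq_zsmul (AddMonoidAlgebra ℤ (ZMod m)), smul_eq_mul] at *
  push_cast at *
  linear_combination (2 * part false W) * h1 - conjHom m ℤ (part true W) * h2 + (2 * (α : AddMonoidAlgebra ℤ (ZMod m))) * e1 - (α : AddMonoidAlgebra ℤ (ZMod m)) * e2

/-- The counting inequality. -/
theorem Good.bound (h : S.Good p W) {n α : ℤ} (hall : ∀ z, conv W W z = n * delta z + α) :
    (p : ℤ) * cycSize W * (m - cycSize W) ≤ n * (m - p) := by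
  classical
  obtain ⟨-, -, -, -, -, -, ha0, ham, -⟩ := h.design
  set a := cycSize W
  set φ : ZMod m → ℤ := fun d => ∑ i, W (false, i) * W (false, d - i) with hφdef
  have hA2 : part false W * part false W = gr φ := gr_mul _ _
  have hA4 : 2 * (gr φ * gr φ) = (2 * n) • gr φ +
      ((2 * α * a - α * outSize W) * a) • gr (fun _ => (1 : ℤ)) := by
    have hc := h.cube hall
    have e1 : part false W * gr (fun _ => (1 : ℤ)) = a • gr (fun _ => 1) := gr_mul_one _
    simp only [← Int.cast_smul_eq_zsmul (AddMonoidAlgebra ℤ (ZMod m)), smul_eq_mul] at *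
    push_cast at *
    rw [← hA2]
    linear_combination part false W * hc +
      (2 * (α : AddMonoidAlgebra ℤ (ZMod m)) * a - α * (outSize W : AddMonoidAlgebra ℤ (ZMod m))) * e1
  set c' := (2 * α * a - α * outSize W) * a
  have hsmul : ∀ (r : ℤ) (f : ZMod m → ℤ), r • gr f = gr fun c => r * f c := fun r f => by
    simp [gr, Finset.smul_sum, AddMonoidAlgebra.smul_single]
  rw [gr_mul, two_mul, gr_add, hsmul, hsmul, gr_add] at hA4
  have hval : ∀ d, 2 * ∑ i, φ i * φ (d - i) = 2 * n * φ d + c' := fun d => by
    have := congrFun (gr_injective hA4) d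
    simp only [Pi.add_apply, mul_one] at this
    rw [two_mul]; exact this
  have hsumφ : ∑ d, φ d = a * a := by
    simp only [hφdef]
    rw [Finset.sum_comm, show a * a = (∑ i, W (false, i)) * a from rfl, Finset.sum_mul]
    refine Finset.sum_congr rfl fun i _ => ?_
    rw [← Finset.mul_sum]
    exact congrArg _ (Equiv.sum_comp (Equiv.subRight i) fun d => W (false, d))
  have hφneg : ∀ d, φ (0 - d) = φ d := fun d => by
    simp only [hφdef]
    rw [← Equiv.sum_comp (Equiv.neg (ZMod m))]
    refine Finset.sum_congr rfl fun i _ => ?_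
    simp only [Equiv.neg_apply]
    rw [S.symm_apply h.mem i, show (0 : ZMod m) - d - -i = -(d - i) by abel,
      S.symm_apply h.mem (d - i)]
  have hφ0 : ∀ d, p • d = 0 → φ d = a := fun d hd => by
    obtain ⟨j, -, rfl⟩ := (smul_eq_zero_iff h.dvd d).1 hd
    refine Finset.sum_congr rfl fun i _ => ?_
    rw [sub_eq_neg_add, h.per.apply_smul (-i) j, S.symm_apply h.mem i]
    rcases h.set (false, i) with e | e <;> simp [e]
  have h0 : 2 * ∑ i, φ i ^ 2 = 2 * n * a + c' := by
    have := hval 0
    rw [hφ0 0 (nsmul_zero p)] at this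
    rw [← this]
    congr 1
    exact Finset.sum_congr rfl fun i _ => by rw [hφneg, sq]
  have htot : 2 * ((a * a) * (a * a)) = 2 * n * (a * a) + m * c' := by
    have h1 : ∑ d, 2 * ∑ i, φ i * φ (d - i) = ∑ d, (2 * n * φ d + c') :=
      Finset.sum_congr rfl fun d _ => hval d
    rw [← Finset.mul_sum, Finset.sum_comm, Finset.sum_add_distrib, ← Finset.mul_sum, hsumφ] at h1
    have hshift : ∀ i, ∑ x, φ (x - i) = a * a := fun i =>
      (Equiv.sum_comp (Equiv.subRight i) φ).trans hsumφ
    simp only [← Finset.mul_sum, hshift] at h1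
    rw [← Finset.sum_mul, hsumφ] at h1
    simpa using h1
  set K := Finset.univ.filter fun d : ZMod m => p • d = 0 with hK
  set T := Finset.univ.filter fun d : ZMod m => ¬ p • d = 0 with hT
  have hcardK : (K.card : ℤ) = p := by
    have := sum_fiber h.dvd (nsmul_zero p) (fun _ : ZMod m => (1 : ℤ))
    simpa [hK] using this
  have hcardT : (T.card : ℤ) = m - p := by
    have := Finset.card_filter_add_card_filter_not (s := (Finset.univ : Finset (ZMod m)))
      (fun d : ZMod m => p • d = 0)
    rw [Finset.card_univ, ZMod.card, ← hK, ← hT] at this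
    omega
  have hs1 : ∑ d ∈ T, φ d = a * a - p * a := by
    have := Finset.sum_filter_add_sum_filter_not Finset.univ (fun d : ZMod m => p • d = 0) φ
    rw [hsumφ, ← hK, ← hT, Finset.sum_congr rfl fun d hd => hφ0 d (Finset.mem_filter.1 hd).2,
      Finset.sum_const, nsmul_eq_mul, hcardK] at this
    linarith
  have hs2 : ∑ d ∈ T, φ d ^ 2 = ∑ d, φ d ^ 2 - p * a ^ 2 := by
    have := Finset.sum_filter_add_sum_filter_not Finset.univ (fun d : ZMod m => p • d = 0)
      (fun d => φ d ^ 2)
    rw [← hK, ← hT, Finset.sum_congr rfl fun d hd => by rw [hφ0 d (Finset.mem_filter.1 hd).2],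
      Finset.sum_const, nsmul_eq_mul, hcardK] at this
    linarith
  have hcs := sq_sum_le_card_mul_sum_sq (s := T) (f := φ)
  rw [hs1, hs2, hcardT] at hcs
  have hmul := mul_le_mul_of_nonneg_left hcs (by positivity : (0 : ℤ) ≤ 2 * m)
  have hsub : 2 * (m : ℤ) * ∑ d, φ d ^ 2 = 2 * m * n * a + 2 * a ^ 4 - 2 * n * a ^ 2 := by
    linear_combination (m : ℤ) * h0 - htot
  have key : 0 ≤ a * (m - a) * (n * (m - p) - p * a * (m - a)) := by
    nlinarith [hmul, hsub]
  have hpos : 0 < a * (m - a) := mul_pos ha0 (by linarith)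
  nlinarith [nonneg_of_mul_nonneg_right key hpos]

end Scheme

end CfsgLib.KnownSimple.DihedralB
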