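import Cfsg.Agent.Lib.KnownSimple.DihedralB.Endgame

/-!
The case of a power of two: no negacyclic `0, ±1` sequence with flat autocorrelation divisible by four.
-/

set_option autoImplicit false
set_option linter.unusedSectionVars false

namespace CfsgLib.KnownSimple.DihedralB

open AddMonoidAlgebra

section Descent

variable {A : Type*} [CommRing A] {ε t : A} {f : ℕ}

theorem exists_mul_pow (hεt : t ^ 2 ^ f * ε = -ε) :
    ∀ r ≤ 2 ^ f, ∃ w, 2 * ε = (1 - t) ^ r * w * ε := by
  intro r
  induction r with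
  | zero => exact fun _ => ⟨2, by rw [pow_zero, one_mul]⟩
  | succ r ih =>
    intro hr
    obtain ⟨w, hw⟩ := ih (by omega)
    suffices ∀ j, ∃ v, (1 - t ^ 2 ^ j) * ε = (1 - t) ^ (min (2 ^ j) (r + 1)) * v * ε by
      obtain ⟨v, hv⟩ := this f
      rw [min_eq_right hr] at hv
      exact ⟨v, by rw [← hv]; linear_combination hεt⟩
    intro j
    induction j with
    | zero => exact ⟨1, by simp⟩
    | succ j ihj =>
      obtain ⟨v, hv⟩ := ihj
      set q := min (2 ^ j) (r + 1)
      have hq1 : 1 ≤ q := le_min Nat.one_le_two_pow (by omega)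
      obtain ⟨d, hd⟩ := Nat.le.dest (show min (2 ^ (j + 1)) (r + 1) ≤ q + r by omega)
      obtain ⟨d', hd'⟩ := Nat.le.dest (show min (2 ^ (j + 1)) (r + 1) ≤ q + q by
        rw [pow_succ]; omega)
      refine ⟨(1 - t) ^ d * (w * v) - (1 - t) ^ d' * (v * v), ?_⟩
      have e1 : (1 - t) ^ (min (2 ^ (j + 1)) (r + 1)) * (1 - t) ^ d = (1 - t) ^ q * (1 - t) ^ r := by
        rw [← pow_add, hd, pow_add]
      have e2 : (1 - t) ^ (min (2 ^ (j + 1)) (r + 1)) * (1 - t) ^ d' = (1 - t) ^ q * (1 - t) ^ q := by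
        rw [← pow_add, hd', pow_add]
      rw [show t ^ 2 ^ (j + 1) = (t ^ 2 ^ j) ^ 2 by rw [← pow_mul, ← pow_succ]]
      linear_combination (1 + t ^ 2 ^ j - (1 - t) ^ q * v) * hv + ((1 - t) ^ q * v) * hw
        - (w * v * ε) * e1 + (v * v * ε) * e2

theorem cancel_pow (hεt : t ^ 2 ^ f * ε = -ε) (hfree : ∀ a : A, 2 * a = 0 → a = 0) :
    ∀ (k : ℕ) (a : A), (1 - t) ^ k * a * ε = 0 → a * ε = 0 := by
  obtain ⟨w, hw⟩ := exists_mul_pow hεt 1 Nat.one_le_two_pow
  intro k
  induction k with
  | zero => intro a h; simpa using h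
  | succ k ih =>
    intro a h
    have h1 := ih ((1 - t) * a) (by linear_combination h)
    refine hfree _ ?_
    linear_combination w * h1 + a * hw

/-- An element with flat norm divisible by four is divisible by two, in the negacyclic quotient. -/
theorem negacyclic_even (hεt : t ^ 2 ^ f * ε = -ε) (hε2 : ε * ε = 2 * ε)
    (hfree : ∀ a : A, 2 * a = 0 → a = 0) (aug : A →+* ZMod 2) (haugt : aug t = 1)
    (hann : ∀ a : A, a * ε = 0 → aug a = 0)
    (haug : ∀ a : A, aug a = 0 → ∃ a', a * ε = (1 - t) * a' * ε)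
    (conj : A →+* A) (hconjε : conj ε = ε) {U : A} (hconjt : conj (1 - t) = U * (1 - t))
    (hU : aug U = 1) (hconjaug : ∀ a, aug (conj a) = aug a) {x : A} {j : ℤ}
    (hx : ε * (x * conj x) = ε * (4 * (j : A))) :
    ∃ y, x * ε = (1 - t) ^ 2 ^ f * y * ε := by
  suffices ∀ i ≤ 2 ^ f, ∃ y, x * ε = (1 - t) ^ i * y * ε from this _ le_rfl
  intro i
  induction i with
  | zero => exact fun _ => ⟨x, by rw [pow_zero, one_mul]⟩
  | succ i ih =>
    intro hi
    obtain ⟨y, hy⟩ := ih (by omega)
    have hy' := congrArg conj hy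
    rw [map_mul, map_mul, map_mul, map_pow, hconjt, mul_pow, hconjε] at hy'
    obtain ⟨w, hw⟩ := exists_mul_pow hεt (2 ^ f) le_rfl
    obtain ⟨d, hd⟩ := Nat.le.dest (show i + i + 1 ≤ 2 ^ f + 2 ^ f by omega)
    have h2h : (1 - t) ^ (2 ^ f) * (1 - t) ^ (2 ^ f) = (1 - t) ^ (i + i) * ((1 - t) * (1 - t) ^ d) := by
      rw [← pow_add, ← hd, pow_add, pow_add, pow_one]; ring
    set P := (1 - t) ^ (2 ^ f) with hP
    set Q := (1 - t) ^ i with hQ
    have hQQ : (1 - t) ^ (i + i) = Q * Q := by rw [hQ, pow_add]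
    rw [hQQ] at h2h
    have key : Q * Q * (U ^ i * (y * conj y) - (1 - t) * (1 - t) ^ d * (w * w * (j : A))) * ε = 0 := by
      refine hfree _ ?_
      linear_combination (-(conj x * ε)) * hy - Q * y * ε * hy' + (2 : A) * hx +
        (x * conj x - Q * y * (U ^ i * Q * conj y)) * hε2 +
        (2 * (2 + w * P) * (j : A)) * hw + (2 * w * w * (j : A) * ε) * h2h
    rw [← hQQ] at key
    have h1 := hann _ (cancel_pow hεt hfree (i + i) _ key)
    rw [map_sub, map_mul, map_mul, map_pow, hU, one_pow, one_mul, hconjaug, map_mul, map_mul,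
      map_sub, map_one, haugt, sub_self, zero_mul, zero_mul, sub_zero] at h1
    have hy0 : aug y = 0 := mul_self_eq_zero.1 h1
    obtain ⟨y', hy'⟩ := haug y hy0
    exact ⟨y', by rw [pow_succ]; linear_combination hy + Q * hy'⟩

end Descent

variable {m : ℕ} [NeZero m]

/-- The augmentation modulo two. -/
noncomputable def augTwo (m : ℕ) [NeZero m] : AddMonoidAlgebra ℤ (ZMod m) →+* ZMod 2 where
  toFun x := ∑ c, (x.coeff c : ZMod 2)
  map_one' := by
    rw [AddMonoidAlgebra.one_def, ← gr_single_zero]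
    simp [coeff_gr, apply_ite]
  map_mul' x y := by
    conv_lhs => rw [← gr_coeff x, ← gr_coeff y, gr_mul]
    simp only [coeff_gr, Int.cast_sum, Int.cast_mul]
    rw [Finset.sum_comm, Finset.sum_mul]
    refine Finset.sum_congr rfl fun i _ => ?_
    rw [← Finset.mul_sum]
    exact congrArg _ (Equiv.sum_comp (Equiv.subRight i) fun d => (y.coeff d : ZMod 2))
  map_zero' := by simp
  map_add' x y := by simp [Finset.sum_add_distrib]

theorem augTwo_gr (g : ZMod m → ℤ) : augTwo m (gr g) = ((∑ c, g c : ℤ) : ZMod 2) := by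
  simp [augTwo, coeff_gr]

theorem augTwo_single (c : ZMod m) (r : ℤ) : augTwo m (single c r) = (r : ZMod 2) := by
  classical
  simp [augTwo, Finsupp.single_apply, apply_ite]

namespace Scheme

variable {S : Scheme m} {W : Pt m → ℤ}

theorem Good.power_false (h : S.Good 2 W) {f : ℕ} (hm : m = 2 ^ (f + 1)) : False := by
  classical
  obtain ⟨n, α, hall, hna, hab, hn, ha0, ham, hb0, hbm⟩ := h.design
  rw [total_eq] at hna
  set a := cycSize W with hadef
  set b := outSize W
  have hgen : gen m 2 = ((2 ^ f : ℕ) : ZMod m) := by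
    rw [gen]
    congr 1
    rw [hm, pow_succ, Nat.mul_div_cancel _ two_pos]
  have hae : (2 : ℤ) ∣ a := by
    rw [hadef, cycSize]; exact Per.dvd_sum h.dvd (h := fun i => W (false, i)) h.per
  have hbe : (2 : ℤ) ∣ b := by
    by_contra hb
    have hα : α = a + b - n := by linarith
    have hmz : (m : ℤ) = 2 * 2 ^ f := by rw [hm]; push_cast; ring
    have hab' : a * b = 2 ^ f * α := mul_left_cancel₀ two_ne_zero
      (by rw [hmz] at hab; linear_combination hab)
    have hcop : IsCoprime ((2 : ℤ) ^ f) b :=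
      ((Prime.coprime_iff_not_dvd Int.prime_two).2 hb).pow_left
    obtain ⟨r, hr⟩ : (2 : ℤ) ^ f ∣ a := hcop.dvd_of_dvd_mul_right ⟨α, hab'⟩
    have hpos : (0 : ℤ) < 2 ^ f := by positivity
    have hr1 : r = 1 := by
      rw [hr] at ha0 ham
      rw [hmz] at ham
      have h1 : 0 < r := by nlinarith
      have h2 : r < 2 := by nlinarith
      omega
    rw [hr1, mul_one] at hr
    have hαb : b = α := mul_left_cancel₀ hpos.ne' (by linear_combination hab' - b * hr)
    have hna' : n = a := by linarith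
    obtain ⟨k, hk⟩ := hae
    have hsq : (2 : ℤ) ∣ (a - b) ^ 2 := ⟨k, by rw [← hn, hna', hk]⟩
    have := Int.prime_two.dvd_of_dvd_pow hsq
    exact hb (by omega)
  obtain ⟨j, hj⟩ : ∃ j : ℤ, n = 4 * j := by
    obtain ⟨k, hk⟩ := hae; obtain ⟨l, hl⟩ := hbe
    exact ⟨(k - l) ^ 2, by rw [hn, hk, hl]; ring⟩
  set t : AddMonoidAlgebra ℤ (ZMod m) := single 1 1 with htdef
  set u : AddMonoidAlgebra ℤ (ZMod m) := single (gen m 2) 1 with hudef
  have htu : t ^ 2 ^ f = u := by rw [htdef, single_pow, one_pow, hudef, hgen, nsmul_one]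
  have huu : u * u = 1 := by
    rw [hudef, single_mul_single, mul_one, AddMonoidAlgebra.one_def, ← two_nsmul, smul_gen h.dvd]
  set ε := 1 - u with hε
  have hcoef : ∀ g : ZMod m → ℤ, gr g * ε = gr fun c => g c - g (c - gen m 2) := fun g => by
    have hu' : u = gr fun c => if c = gen m 2 then (1 : ℤ) else 0 := by
      rw [hudef, gr, Finset.sum_eq_single (gen m 2)] <;> simp +contextual
    rw [hε, mul_sub, mul_one, hu', gr_mul, gr_sub]
    refine congrArg gr (funext fun c => ?_)
    rw [Pi.sub_apply, Finset.sum_eq_single (c - gen m 2)]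
    · simp
    · intro i _ hi
      rw [if_neg (fun e => hi (by rw [← e]; abel)), mul_zero]
    · simp
  have hper0 : ∀ g : ZMod m → ℤ, Per 2 g → gr g * ε = 0 := fun g hg => by
    rw [hcoef, ← gr_zero]
    exact congrArg gr (funext fun c => by rw [hg.sub c, sub_self]; rfl)
  have hfree : ∀ x : AddMonoidAlgebra ℤ (ZMod m), 2 * x = 0 → x = 0 := fun x hx => by
    rw [← gr_coeff x] at hx ⊢
    rw [two_mul, gr_add, ← gr_zero] at hx
    rw [← gr_zero]
    exact congrArg gr (funext fun c => by
      have := congrFun (gr_injective hx) c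
      simp only [Pi.add_apply, Pi.zero_apply] at this ⊢
      omega)
  have hneg : -gen m 2 = gen m 2 :=
    neg_eq_of_add_eq_zero_left (by rw [← two_nsmul, smul_gen h.dvd])
  have hrel := (h.ring_relations hall).1
  have hx : ε * (part true W * conjHom m ℤ (part true W)) = ε * (4 * (j : AddMonoidAlgebra ℤ (ZMod m))) := by
    have e1 : part false W * ε = 0 := hper0 _ h.per
    have e2 : gr (fun _ : ZMod m => (1 : ℤ)) * ε = 0 := hper0 _ fun _ => rfl
    have e3 : (n : AddMonoidAlgebra ℤ (ZMod m)) = 4 * (j : AddMonoidAlgebra ℤ (ZMod m)) := by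
      rw [hj]; push_cast; ring
    simp only [← Int.cast_smul_eq_zsmul (AddMonoidAlgebra ℤ (ZMod m)), smul_eq_mul] at hrel
    linear_combination ε * hrel - part false W * e1 + (α : AddMonoidAlgebra ℤ (ZMod m)) * e2 + ε * e3
  obtain ⟨y, hy⟩ := negacyclic_even (A := AddMonoidAlgebra ℤ (ZMod m)) (ε := ε) (t := t) (f := f)
    (by rw [htu, hε]; linear_combination -huu)
    (by rw [hε]; linear_combination huu) hfree (augTwo m) (by rw [htdef, augTwo_single, Int.cast_one])
    (fun x hx => by
      rw [← gr_coeff x, hcoef, ← gr_zero] at hx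
      have hper : Per 2 fun c => x.coeff c := fun c => by
        have := congrFun (gr_injective hx) (c + gen m 2)
        simp only [add_sub_cancel_right, Pi.zero_apply, sub_eq_zero] at this
        exact this
      rw [← gr_coeff x, augTwo_gr]
      exact (ZMod.intCast_zmod_eq_zero_iff_dvd _ _).2 (Per.dvd_sum h.dvd hper))
    (fun x hx => by
      rw [← gr_coeff x] at hx ⊢
      set g : ZMod m → ℤ := fun c => x.coeff c
      rw [augTwo_gr] at hx
      obtain ⟨k, hk⟩ := (ZMod.intCast_zmod_eq_zero_iff_dvd _ _).1 hx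
      obtain ⟨w, hw⟩ := exists_mul_pow (A := AddMonoidAlgebra ℤ (ZMod m)) (ε := ε) (t := t) (f := f)
        (by rw [htu, hε]; linear_combination -huu) 1 Nat.one_le_two_pow
      obtain ⟨z, hz⟩ : (1 - t) ∣ gr g - ((2 * k : ℤ) : AddMonoidAlgebra ℤ (ZMod m)) := by
        rw [show (2 * k : ℤ) = ∑ c, g c from hk.symm, Int.cast_sum, gr, ← Finset.sum_sub_distrib]
        refine Finset.dvd_sum fun c _ => ?_
        have e : single c (g c) = ((g c : ℤ) : AddMonoidAlgebra ℤ (ZMod m)) * t ^ c.val := by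
          rw [htdef, single_pow, one_pow, nsmul_one, ZMod.natCast_zmod_val, ← smul_eq_mul,
            Int.cast_smul_eq_zsmul, AddMonoidAlgebra.smul_single]
          simp
        rw [e, ← mul_sub_one]
        refine dvd_mul_of_dvd_right ?_ _
        rw [← neg_sub t 1, neg_dvd]
        exact sub_one_dvd_pow_sub_one t _
      refine ⟨z + (k : AddMonoidAlgebra ℤ (ZMod m)) * w, ?_⟩
      push_cast at hz
      linear_combination ε * hz + (k : AddMonoidAlgebra ℤ (ZMod m)) * hw)
    (conjHom m ℤ)
    (by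
      rw [hε, map_sub, map_one, hudef, conjHom, mapDomainRingHom_apply, mapDomain_single]
      simp [hneg])
    (U := -single (-1) 1)
    (by
      rw [map_sub, map_one, htdef, conjHom, mapDomainRingHom_apply, mapDomain_single,
        mul_sub, mul_one, neg_mul, single_mul_single, AddMonoidAlgebra.one_def]
      simp [add_comm, sub_eq_add_neg])
    (by rw [map_neg, augTwo_single]; decide)
    (fun x => by
      rw [← gr_coeff x, conjHom_gr, augTwo_gr, augTwo_gr]
      exact congrArg _ (Equiv.sum_comp (Equiv.neg (ZMod m)) fun c => x.coeff c))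
    hx
  have hz2 : mapRingHom (ZMod m) (Int.castRingHom (ZMod 2)) (part true W * ε) = 0 := by
    have : CharP (AddMonoidAlgebra (ZMod 2) (ZMod m)) 2 :=
      charP_of_injective_ringHom (f := (AddMonoidAlgebra.singleZeroRingHom :
        ZMod 2 →+* AddMonoidAlgebra (ZMod 2) (ZMod m))) (fun u v h => by
          simpa using congrArg (fun x => x.coeff 0) h) 2
    rw [hy, map_mul, map_mul, map_pow, map_sub, map_one, sub_pow_char_pow, one_pow, ← map_pow, htu]
    rw [show ∀ P Q R : AddMonoidAlgebra (ZMod 2) (ZMod m), P * Q * R = Q * (P * R) from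
      fun P Q R => by ring, ← map_one (mapRingHom (ZMod m) (Int.castRingHom (ZMod 2))), ← map_sub,
      ← map_mul, ← hε, show ε * ε = 2 * ε by rw [hε]; linear_combination huu, map_mul, map_ofNat,
      (CharTwo.two_eq_zero : (2 : AddMonoidAlgebra (ZMod 2) (ZMod m)) = 0), zero_mul, mul_zero]
  apply h.not_per
  intro c
  show W (true, c + gen m 2) = W (true, c)
  rw [part, hcoef, mapRing_gr, ← gr_zero] at hz2
  have h0 : ((W (true, c + gen m 2) - W (true, c + gen m 2 - gen m 2) : ℤ) : ZMod 2) = 0 :=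
    congrFun (gr_injective hz2) (c + gen m 2)
  have h1 := (ZMod.intCast_zmod_eq_zero_iff_dvd _ 2).1 h0
  rw [add_sub_cancel_right] at h1
  rcases h.set (true, c + gen m 2) with e | e <;> rcases h.set (true, c) with e' | e' <;>
    rw [e, e'] at h1 ⊢ <;> omega

end Scheme

end CfsgLib.KnownSimple.DihedralB
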