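import Mathlib

/-!
Group rings of finite cyclic groups, as functions.
-/

set_option autoImplicit false
set_option linter.unusedSectionVars false

namespace CfsgLib.KnownSimple.DihedralB

open AddMonoidAlgebra

variable {m : ℕ} [NeZero m] {R : Type*} [CommRing R]

/-- The group ring element with given coefficients. -/
noncomputable def gr (f : ZMod m → R) : AddMonoidAlgebra R (ZMod m) := ∑ c, single c (f c)

theorem coeff_gr (f : ZMod m → R) (c : ZMod m) : (gr f).coeff c = f c := by
  classical
  simp [gr, AddMonoidAlgebra.coeff_sum, Finsupp.finset_sum_apply, Finsupp.single_apply]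

theorem gr_injective : Function.Injective (gr (m := m) (R := R)) := fun f g h =>
  funext fun c => by rw [← coeff_gr f, h, coeff_gr]

theorem gr_mul (f g : ZMod m → R) : gr f * gr g = gr fun d => ∑ i, f i * g (d - i) := by
  simp only [gr, Finset.sum_mul, Finset.mul_sum, single_mul_single]
  rw [Finset.sum_comm]
  calc ∑ i, ∑ j, single (i + j) (f i * g j) = ∑ i, ∑ d, single d (f i * g (d - i)) := by
        refine Finset.sum_congr rfl fun i _ => ?_
        exact Fintype.sum_equiv (Equiv.addLeft i) _ _ fun j => by simp
    _ = ∑ d, ∑ i, single d (f i * g (d - i)) := Finset.sum_comm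
    _ = ∑ d, single d (∑ i, f i * g (d - i)) := Finset.sum_congr rfl fun d _ =>
        (map_sum (AddMonoidAlgebra.singleAddHom d) _ _).symm

theorem gr_add (f g : ZMod m → R) : gr f + gr g = gr (f + g) := by
  simp [gr, ← Finset.sum_add_distrib]

theorem gr_sub (f g : ZMod m → R) : gr f - gr g = gr (f - g) := by
  rw [sub_eq_iff_eq_add, gr_add, sub_add_cancel]

theorem gr_zero : gr (0 : ZMod m → R) = 0 := by simp [gr]

theorem gr_coeff (x : AddMonoidAlgebra R (ZMod m)) : gr (fun c => x.coeff c) = x := by
  apply AddMonoidAlgebra.coeff_injective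
  exact Finsupp.ext fun c => coeff_gr _ c

theorem gr_single_zero (r : R) : gr (fun c : ZMod m => if c = 0 then r else 0) = single 0 r := by
  classical
  simp [gr, apply_ite]

/-- Negation of exponents. -/
noncomputable def conjHom (m : ℕ) (R : Type*) [CommRing R] :
    AddMonoidAlgebra R (ZMod m) →+* AddMonoidAlgebra R (ZMod m) :=
  mapDomainRingHom R (-AddMonoidHom.id (ZMod m))

theorem conjHom_gr (f : ZMod m → R) : conjHom m R (gr f) = gr fun c => f (-c) := by
  simp only [gr, map_sum, conjHom, mapDomainRingHom_apply, mapDomain_single]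
  exact Fintype.sum_equiv (Equiv.neg _) _ _ fun c => by simp

theorem pushHom_gr {k : ℕ} [NeZero k] (φ : ZMod m →+ ZMod k) (f : ZMod m → R) :
    mapDomainRingHom R φ (gr f) = gr fun y => ∑ i with φ i = y, f i := by
  classical
  simp only [gr, map_sum, mapDomainRingHom_apply, mapDomain_single]
  rw [← Finset.sum_fiberwise Finset.univ φ fun c => single (φ c) (f c)]
  refine Finset.sum_congr rfl fun y _ => ?_
  rw [← AddMonoidAlgebra.singleAddHom_apply, map_sum]
  exact Finset.sum_congr rfl fun i hi => by
    rw [(Finset.mem_filter.1 hi).2, AddMonoidAlgebra.singleAddHom_apply]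

theorem mapRing_gr {S : Type*} [CommRing S] (φ : R →+* S) (f : ZMod m → R) :
    mapRingHom (ZMod m) φ (gr f) = gr fun c => φ (f c) := by
  simp [gr, map_sum]

/-- The Frobenius map of a cyclic group ring over a prime field. -/
theorem gr_pow_prime {p : ℕ} [Fact p.Prime] (f : ZMod m → ZMod p) :
    gr f ^ p = gr fun c => ∑ i with p • i = c, f i := by
  classical
  have : CharP (AddMonoidAlgebra (ZMod p) (ZMod m)) p :=
    charP_of_injective_ringHom (f := (AddMonoidAlgebra.singleZeroRingHom :
      ZMod p →+* AddMonoidAlgebra (ZMod p) (ZMod m))) (fun a b h => by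
        simpa using congrArg (fun x => x.coeff 0) h) p
  rw [gr, sum_pow_char p, gr]
  simp only [single_pow, ZMod.pow_card]
  rw [← Finset.sum_fiberwise Finset.univ (fun i => p • i) fun c => single (p • c) (f c)]
  refine Finset.sum_congr rfl fun y _ => ?_
  rw [← AddMonoidAlgebra.singleAddHom_apply, map_sum]
  exact Finset.sum_congr rfl fun i hi => by
    rw [(Finset.mem_filter.1 hi).2, AddMonoidAlgebra.singleAddHom_apply]

end CfsgLib.KnownSimple.DihedralB
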