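import Cfsg.Agent.Lib.KnownSimple.DihedralB.Ring

/-!
The scheme of a primitive group with a regular dihedral subgroup: symmetry, powers modulo primes.
-/

set_option autoImplicit false
set_option linter.unusedSectionVars false

namespace CfsgLib.KnownSimple.DihedralB

open AddMonoidAlgebra Matrix

/-- The points: the two orbits of the cyclic subgroup. -/
abbrev Pt (m : ℕ) : Type := Bool × ZMod m

variable {m : ℕ}

/-- The label of an ordered pair of points. -/
def kdiff (x y : Pt m) : Pt m := (xor x.1 y.1, if x.1 then x.2 - y.2 else y.2 - x.2)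

/-- The origin. -/
def orig : Pt m := (false, 0)

/-- The product of two kernels. -/
def conv [NeZero m] (f g : Pt m → ℤ) (z : Pt m) : ℤ := ∑ y, f y * g (kdiff y z)

/-- The identity kernel. -/
def delta (z : Pt m) : ℤ := if z = orig then 1 else 0

/-- The invariant kernels of a primitive group with a regular dihedral subgroup. -/
structure Scheme (m : ℕ) [NeZero m] where
  Inv : Set (Pt m → ℤ)
  two_le : 2 ≤ m
  pointwise : ∀ {f g : Pt m → ℤ} (h : ℤ → ℤ → ℤ), f ∈ Inv → g ∈ Inv → (fun z => h (f z) (g z)) ∈ Inv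
  delta_mem : delta ∈ Inv
  conv_mem : ∀ {f g : Pt m → ℤ}, f ∈ Inv → g ∈ Inv → conv f g ∈ Inv
  transpose_mem : ∀ {f : Pt m → ℤ}, f ∈ Inv → (fun z => f (kdiff z orig)) ∈ Inv
  periodic : ∀ {f : Pt m → ℤ}, f ∈ Inv → ∀ {u : ZMod m}, u ≠ 0 →
    (∀ b c, f (b, c + u) = f (b, c)) → ∀ x y, f x = f y
  inC : ∀ {f : Pt m → ℤ}, f ∈ Inv → (∀ c, f (true, c) = 0) → ∀ c, c ≠ 0 → f (false, c) = 0
  noMatching : ∀ {f : Pt m → ℤ}, f ∈ Inv → (∀ c, f (false, c) = 0) →
    ∀ c₀, (∀ c, f (true, c) = if c = c₀ then 1 else 0) → False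

/-- The `b`-th part of a kernel. -/
noncomputable def part [NeZero m] (b : Bool) (f : Pt m → ℤ) : AddMonoidAlgebra ℤ (ZMod m) :=
  gr fun c => f (b, c)

section Parts

variable [NeZero m]

theorem part_false_conv (f g : Pt m → ℤ) :
    part false (conv f g) = part false f * part false g + part true f * conjHom m ℤ (part true g) := by
  simp only [part, conjHom_gr, gr_mul, gr_add]
  refine congrArg gr (funext fun d => ?_)
  simp only [Pi.add_apply, conv, Fintype.sum_prod_type, Fintype.univ_bool, Finset.sum_insert,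
    Finset.mem_singleton, Bool.true_eq_false, not_false_eq_true, Finset.sum_singleton, kdiff]
  rw [add_comm]
  simp [neg_sub]

theorem part_true_conv (f g : Pt m → ℤ) :
    part true (conv f g) = part false f * part true g + part true f * conjHom m ℤ (part false g) := by
  simp only [part, conjHom_gr, gr_mul, gr_add]
  refine congrArg gr (funext fun d => ?_)
  simp only [Pi.add_apply, conv, Fintype.sum_prod_type, Fintype.univ_bool, Finset.sum_insert,
    Finset.mem_singleton, Bool.true_eq_false, not_false_eq_true, Finset.sum_singleton, kdiff]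
  rw [add_comm]
  simp [neg_sub]

theorem part_delta_false : part false (delta (m := m)) = 1 := by
  rw [AddMonoidAlgebra.one_def, ← gr_single_zero, part]
  simp [delta, orig]

theorem part_delta_true : part true (delta (m := m)) = 0 := by
  rw [← gr_zero, part]
  simp [delta, orig]
  rfl

theorem conjHom_conjHom (x : AddMonoidAlgebra ℤ (ZMod m)) : conjHom m ℤ (conjHom m ℤ x) = x := by
  rw [← gr_coeff x, conjHom_gr, conjHom_gr]; simp

theorem part_ext {f g : Pt m → ℤ} (h0 : part false f = part false g) (h1 : part true f = part true g) :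
    f = g := by
  funext ⟨b, c⟩
  cases b
  · exact congrFun (gr_injective h0) c
  · exact congrFun (gr_injective h1) c

theorem part_sub (b : Bool) (f g : Pt m → ℤ) :
    part b (fun z => f z - g z) = part b f - part b g := by
  simp only [part, gr_sub]; rfl

theorem part_transpose_false (f : Pt m → ℤ) :
    part false (fun z => f (kdiff z orig)) = conjHom m ℤ (part false f) := by
  simp [part, conjHom_gr, kdiff, orig]

theorem part_transpose_true (f : Pt m → ℤ) :
    part true (fun z => f (kdiff z orig)) = part true f := by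
  simp [part, kdiff, orig]

end Parts

namespace Scheme

variable [NeZero m] (S : Scheme m)

theorem const_mem (r : ℤ) : (fun _ : Pt m => r) ∈ S.Inv :=
  S.pointwise (fun _ _ => r) S.delta_mem S.delta_mem

theorem map_mem {f : Pt m → ℤ} (hf : f ∈ S.Inv) (h : ℤ → ℤ) : (fun z => h (f z)) ∈ S.Inv :=
  S.pointwise (fun a _ => h a) hf hf

/-- Kernels are symmetric. -/
theorem symm {f : Pt m → ℤ} (hf : f ∈ S.Inv) : conjHom m ℤ (part false f) = part false f := by
  have key : ∀ {a b : Pt m → ℤ}, a ∈ S.Inv → b ∈ S.Inv →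
      conv a (fun z => b (kdiff z orig)) = conv b (fun z => a (kdiff z orig)) := by
    intro a b ha hb
    set u := conv a (fun z => b (kdiff z orig))
    set v := conv b (fun z => a (kdiff z orig))
    have hu : u ∈ S.Inv := S.conv_mem ha (S.transpose_mem hb)
    have hv : v ∈ S.Inv := S.conv_mem hb (S.transpose_mem ha)
    have h1 : part true u = part true v := by
      simp only [u, v, part_true_conv, part_transpose_false, part_transpose_true, conjHom_conjHom]
      ring
    have h1' : ∀ c, u (true, c) = v (true, c) := congrFun (gr_injective h1)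
    have h0 := S.inC (S.pointwise (fun a b => a - b) hu hv) (fun c => sub_eq_zero.2 (h1' c))
    funext ⟨b', c⟩
    cases b'
    · rcases eq_or_ne c 0 with rfl | hc
      · refine Finset.sum_congr rfl fun y _ => ?_
        obtain ⟨yb, yc⟩ := y
        cases yb <;> simp [kdiff, orig] <;> ring
      · exact sub_eq_zero.1 (h0 c hc)
    · exact h1' c
  have h := congrArg (part false) (key hf S.delta_mem)
  simp only [part_false_conv, part_transpose_false, part_transpose_true, part_delta_false,
    part_delta_true, map_one, map_zero, mul_one, mul_zero, one_mul, zero_mul, add_zero] at h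
  exact h.symm

theorem symm_apply {f : Pt m → ℤ} (hf : f ∈ S.Inv) (c : ZMod m) : f (false, -c) = f (false, c) := by
  have h := S.symm hf
  rw [part, conjHom_gr] at h
  exact congrFun (gr_injective h) c

theorem part_true_conv' (f : Pt m → ℤ) {g : Pt m → ℤ} (hg : g ∈ S.Inv) :
    part true (conv f g) = part false f * part true g + part true f * part false g := by
  rw [part_true_conv, S.symm hg]

/-- A kernel vanishing on the cyclic part vanishes. -/
theorem zero_of_cyclic {f : Pt m → ℤ} (hf : f ∈ S.Inv) (h : ∀ c, f (false, c) = 0) : f = 0 := by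
  classical
  set X : Pt m → ℤ := fun z => if f z = 0 then 0 else 1 with hX
  have hXm : X ∈ S.Inv := S.map_mem hf fun a => if a = 0 then 0 else 1
  have hX0 : ∀ c, X (false, c) = 0 := fun c => by simp [hX, h c]
  have hp0 : part false X = 0 := by rw [part, ← gr_zero]; exact congrArg gr (funext hX0)
  have hXX := S.conv_mem hXm hXm
  have hz := S.inC hXX (congrFun (gr_injective (by
    rw [show gr (fun c => conv X X (true, c)) = part true (conv X X) from rfl, S.part_true_conv' X hXm,
      hp0, zero_mul, mul_zero, add_zero, ← gr_zero] : gr (fun c => conv X X (true, c)) = gr 0) :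
      (fun c => conv X X (true, c)) = 0))
  by_contra hne
  obtain ⟨c₀, hc₀⟩ : ∃ c, X (true, c) = 1 := by
    by_contra hno
    push Not at hno
    refine hne (funext fun ⟨b, c⟩ => ?_)
    cases b
    · exact h c
    · by_contra hfc
      exact hno c (if_neg hfc)
  refine S.noMatching hXm hX0 c₀ fun c => ?_
  rcases eq_or_ne c c₀ with rfl | hc
  · rw [if_pos rfl, hc₀]
  · rw [if_neg hc]
    have h1 := hz (c - c₀) (sub_ne_zero.2 hc)
    simp only [conv, Fintype.sum_prod_type, Fintype.univ_bool, Finset.sum_insert, Finset.mem_singleton,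
      Bool.true_eq_false, not_false_eq_true, Finset.sum_singleton, hX0, zero_mul, Finset.sum_const_zero,
      add_zero, kdiff] at h1
    have hnn : ∀ i, 0 ≤ X (true, i) * X (true, i - (c - c₀)) := fun i => by
      simp only [hX]; split_ifs <;> simp
    simp only [Bool.xor_false, if_true] at h1
    have h2 := (Finset.sum_eq_zero_iff_of_nonneg (fun i _ => hnn i)).1 h1 c (Finset.mem_univ _)
    rwa [sub_sub_cancel, hc₀, mul_one] at h2

theorem eq_of_cyclic {f g : Pt m → ℤ} (hf : f ∈ S.Inv) (hg : g ∈ S.Inv)
    (h : ∀ c, f (false, c) = g (false, c)) : f = g :=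
  funext fun z => sub_eq_zero.1
    (congrFun (S.zero_of_cyclic (S.pointwise (fun a b => a - b) hf hg) fun c => sub_eq_zero.2 (h c)) z)

theorem dvd_of_cyclic {f : Pt m → ℤ} (hf : f ∈ S.Inv) {d : ℤ} (h : ∀ c, d ∣ f (false, c)) (z : Pt m) :
    d ∣ f z := by
  classical
  have h1 := S.zero_of_cyclic (S.map_mem hf fun a => a % d) fun c => Int.emod_eq_zero_of_dvd (h c)
  exact Int.dvd_of_emod_eq_zero (congrFun h1 z)

theorem dvd_of_noncyclic {f : Pt m → ℤ} (hf : f ∈ S.Inv) {d : ℤ} (h : ∀ c, d ∣ f (true, c))
    (c : ZMod m) (hc : c ≠ 0) : d ∣ f (false, c) :=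
  Int.dvd_of_emod_eq_zero
    (S.inC (S.map_mem hf fun a => a % d) (fun c => Int.emod_eq_zero_of_dvd (h c)) c hc)

/-! ### Powers -/

/-- The powers of a kernel. -/
def pw (f : Pt m → ℤ) : ℕ → Pt m → ℤ
  | 0 => delta
  | j + 1 => conv (pw f j) f

theorem pw_mem {f : Pt m → ℤ} (hf : f ∈ S.Inv) : ∀ j, pw f j ∈ S.Inv
  | 0 => S.delta_mem
  | j + 1 => S.conv_mem (pw_mem hf j) hf

/-- The matrix of a kernel. -/
noncomputable def mat (f : Pt m → ℤ) : Matrix (Fin 2) (Fin 2) (AddMonoidAlgebra ℤ (ZMod m)) :=
  !![part false f, part true f; conjHom m ℤ (part true f), part false f]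

theorem mat_conv {f g : Pt m → ℤ} (hf : f ∈ S.Inv) (hg : g ∈ S.Inv) :
    mat (conv f g) = mat f * mat g := by
  have h0 := S.symm (S.conv_mem hf hg)
  rw [mat, mat, mat, Matrix.mul_fin_two]
  rw [part_false_conv] at h0 ⊢
  rw [S.part_true_conv' f hg]
  rw [map_add, map_mul, map_mul, S.symm hf, S.symm hg] at h0 ⊢
  rw [conjHom_conjHom] at h0
  ext i j : 1
  fin_cases i <;> fin_cases j <;> simp
  · ring
  · rw [← h0, add_comm]

theorem mat_pw {f : Pt m → ℤ} (hf : f ∈ S.Inv) : ∀ j, mat (pw f j) = mat f ^ j
  | 0 => by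
    rw [pow_zero, pw, mat, part_delta_false, part_delta_true, map_zero, Matrix.one_fin_two]
  | j + 1 => by rw [pw, S.mat_conv (S.pw_mem hf j) hf, mat_pw hf j, pow_succ]

/-- The part of a kernel modulo `p`. -/
noncomputable def partMod (p : ℕ) (b : Bool) (f : Pt m → ℤ) : AddMonoidAlgebra (ZMod p) (ZMod m) :=
  gr fun c => (f (b, c) : ZMod p)

theorem map_part (p : ℕ) (b : Bool) (f : Pt m → ℤ) :
    mapRingHom (ZMod m) (Int.castRingHom (ZMod p)) (part b f) = partMod p b f := mapRing_gr _ _

theorem map_conj (p : ℕ) (x : AddMonoidAlgebra ℤ (ZMod m)) :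
    mapRingHom (ZMod m) (Int.castRingHom (ZMod p)) (conjHom m ℤ x) =
      conjHom m (ZMod p) (mapRingHom (ZMod m) (Int.castRingHom (ZMod p)) x) := by
  rw [← gr_coeff x, conjHom_gr, mapRing_gr, mapRing_gr, conjHom_gr]

/-- The norm of the non-cyclic part modulo `p`. -/
noncomputable def normMod (p : ℕ) (f : Pt m → ℤ) : AddMonoidAlgebra (ZMod p) (ZMod m) :=
  partMod p true f * conjHom m (ZMod p) (partMod p true f)

theorem pow_mod_odd {p : ℕ} [hp : Fact p.Prime] {f : Pt m → ℤ} (hf : f ∈ S.Inv) {l : ℕ}
    (hl : p = 2 * l + 1) :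
    partMod p false (pw f p) = partMod p false f ^ p ∧
      partMod p true (pw f p) = normMod p f ^ l * partMod p true f := by
  set φ := mapRingHom (ZMod m) (Int.castRingHom (ZMod p))
  have h := congrArg (φ.mapMatrix (m := Fin 2)) (S.mat_pw hf p)
  rw [map_pow] at h
  set a := partMod p false f
  set b := partMod p true f
  set b' := conjHom m (ZMod p) b
  have hsplit : φ.mapMatrix (mat f) = Matrix.scalar (Fin 2) a + !![0, b; b', 0] := by
    ext i j : 1
    fin_cases i <;> fin_cases j <;> simp [φ, mat, map_part, map_conj, a, b, b', Matrix.scalar]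
  have hB2 : (!![0, b; b', 0] : Matrix (Fin 2) (Fin 2) _) ^ 2 = Matrix.scalar (Fin 2) (b * b') := by
    rw [sq, Matrix.mul_fin_two]
    ext i j : 1
    fin_cases i <;> fin_cases j <;> simp [Matrix.scalar, mul_comm]
  have : CharP (Matrix (Fin 2) (Fin 2) (AddMonoidAlgebra (ZMod p) (ZMod m))) p :=
    charP_of_injective_ringHom (f := (Matrix.scalar (Fin 2)).comp (AddMonoidAlgebra.singleZeroRingHom :
      ZMod p →+* AddMonoidAlgebra (ZMod p) (ZMod m))) (fun u v h => by
        simpa [Matrix.scalar] using congrArg (fun x : Matrix (Fin 2) (Fin 2) _ => (x 0 0).coeff 0) h) p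
  rw [hsplit, add_pow_char_of_commute (p := p)
    (Matrix.scalar_commute a (fun r => Commute.all a r) _),
    show (!![0, b; b', 0] : Matrix (Fin 2) (Fin 2) _) ^ p =
      Matrix.scalar (Fin 2) ((b * b') ^ l) * !![0, b; b', 0] by
      conv_lhs => arg 2; rw [hl]
      rw [pow_succ, pow_mul, hB2, map_pow], ← map_pow] at h
  constructor
  · have h1 := congrFun (congrFun h 0) 0
    simpa [φ, mat, map_part, Matrix.scalar] using h1
  · have h1 := congrFun (congrFun h 0) 1
    simpa [φ, mat, map_part, Matrix.scalar, normMod] using h1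

theorem pow_mod_two {f : Pt m → ℤ} (hf : f ∈ S.Inv) :
    partMod 2 false (pw f 2) = partMod 2 false f ^ 2 + normMod 2 f ∧
      partMod 2 true (pw f 2) = 0 := by
  set φ := mapRingHom (ZMod m) (Int.castRingHom (ZMod 2))
  have h := congrArg (φ.mapMatrix (m := Fin 2)) (S.mat_pw hf 2)
  rw [map_pow, sq] at h
  constructor
  · have h1 := congrFun (congrFun h 0) 0
    simpa [φ, mat, map_part, map_conj, normMod, sq, Matrix.mul_apply, Fin.sum_univ_two] using h1
  · have h1 := congrFun (congrFun h 0) 1
    simp [φ, mat, map_part, map_conj, Matrix.mul_apply, Fin.sum_univ_two] at h1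
    rw [h1, mul_comm (partMod 2 true f), ← add_mul]
    have : ∀ x : AddMonoidAlgebra (ZMod 2) (ZMod m), x + x = 0 := fun x => by
      rw [← gr_coeff x, gr_add, ← gr_zero]
      exact congrArg gr (funext fun c => CharTwo.add_self_eq_zero _)
    rw [this, zero_mul]

end Scheme

end CfsgLib.KnownSimple.DihedralB
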